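import Mathlib
import Groth.Agent.AlgSpLib.RepBase
import Groth.Agent.AlgSpLib.Bootstrap

/-!
# Representability of quotients by flat equivalence relations
-/

set_option autoImplicit false
set_option backward.isDefEq.respectTransparency false
set_option maxHeartbeats 800000

universe u

open CategoryTheory CategoryTheory.Limits MonoidalCategory CartesianMonoidalCategory AlgebraicGeometry Opposite
open AlgSp AlgSpLib

noncomputable section

namespace Groth.Agent.QuotRep

variable {S : Scheme.{u}} {R U : Over S} {s t : R ⟶ U} (h : IsEqvRel s t)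

include h in
theorem map_π_eq_iff {T : Over S} (a b : T ⟶ U) :
    (yon S).map a ≫ qπ s t = (yon S).map b ≫ qπ s t ↔ ∃ r : T ⟶ R, r ≫ t = a ∧ r ≫ s = b := by
  refine ⟨fun e => ?_, ?_⟩
  · obtain ⟨r, hr⟩ := (yon S).map_surjective ((isPullback_qπ s t h).lift _ _ e)
    exact ⟨r, (yon S).map_injective (by rw [Functor.map_comp, hr, IsPullback.lift_fst]),
      (yon S).map_injective (by rw [Functor.map_comp, hr, IsPullback.lift_snd])⟩
  · rintro ⟨r, rfl, rfl⟩
    rw [Functor.map_comp, Functor.map_comp, Category.assoc, Category.assoc, (isPullback_qπ s t h).w]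

theorem epi_map_of_fppf {V W : Over S} (q : V ⟶ W) [Flat q.left] [LocallyOfFinitePresentation q.left]
    [Surjective q.left] : Epi ((yon S).map q) := by
  haveI := isLocallySurjective_yon_map q
  exact (Sheaf.isLocallySurjective_iff_epi _).mp inferInstance

theorem isEffClass_openImmersion : IsEffClass S @IsOpenImmersion := by
  refine IsEffClass.mono (fun A B f hf => ?_) isEffClass_sepLqf
  haveI : IsOpenImmersion f := hf
  exact ⟨(inferInstance : IsSeparated f), (inferInstance : LocallyQuasiFinite f),
    (inferInstance : LocallyOfFiniteType f)⟩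

include h in
/-- An invariant open with a quotient gives an open subsheaf of the quotient. -/
theorem exists_open_sub {U' X : Over S} (g : U' ⟶ U) [IsOpenImmersion g.left] (p : U' ⟶ X) [Flat p.left]
    [LocallyOfFinitePresentation p.left] [Surjective p.left]
    (hiff : ∀ (T : Over S) (a b : T ⟶ U'), a ≫ p = b ≫ p ↔ ∃ r, r ≫ t = a ≫ g ∧ r ≫ s = b ≫ g)
    (hsat : ∀ r : R.left, t.left.base r ∈ Set.range g.left.base ↔ s.left.base r ∈ Set.range g.left.base) :
    ∃ f : (yon S).obj X ⟶ QuotSh.quot Scheme.fppfPrecoverage s t,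
      RepWith @IsOpenImmersion f ∧ IsPullback ((yon S).map g) ((yon S).map p) (qπ s t) f := by
  haveI := isLocallySurjective_yon_map p
  haveI := epi_map_of_fppf p
  haveI : Mono g := Over.mono_of_mono_left g
  obtain ⟨f, hf⟩ := exists_desc ((yon S).map p) ((yon S).map g ≫ qπ s t) fun T b b' e => by
    obtain ⟨b, rfl⟩ := (yon S).map_surjective b
    obtain ⟨b', rfl⟩ := (yon S).map_surjective b'
    rw [← Functor.map_comp, ← Functor.map_comp] at e
    rw [← Functor.map_comp_assoc, ← Functor.map_comp_assoc, map_π_eq_iff h]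
    exact (hiff T b b').mp ((yon S).map_injective e)
  have sq : IsPullback ((yon S).map g) ((yon S).map p) (qπ s t) f := by
    refine isPullback_of_forall_existsUnique hf.symm fun T a b e => ?_
    obtain ⟨a, rfl⟩ := (yon S).map_surjective a
    obtain ⟨b, rfl⟩ := (yon S).map_surjective b
    obtain ⟨T', q, c, hq₁, hq₂, hq₃, hc⟩ := exists_single_lift ((yon S).map p) ((yon S).map b)
    obtain ⟨c, rfl⟩ := (yon S).map_surjective c
    rw [← Functor.map_comp, ← Functor.map_comp] at hc
    have hc' : c ≫ p = q ≫ b := (yon S).map_injective hc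
    have e' : (yon S).map (q ≫ a) ≫ qπ s t = (yon S).map (c ≫ g) ≫ qπ s t := by
      rw [Functor.map_comp, Category.assoc, e, ← Category.assoc, ← Functor.map_comp, ← hc', Functor.map_comp,
        Category.assoc, hf, ← Category.assoc, ← Functor.map_comp]
    obtain ⟨r, hr₁, hr₂⟩ := (map_π_eq_iff h _ _).mp e'
    have hrange : Set.range a.left.base ⊆ Set.range g.left.base := by
      rintro _ ⟨x, rfl⟩
      obtain ⟨x', rfl⟩ := q.left.surjective x
      have h1 : t.left.base (r.left.base x') = a.left.base (q.left.base x') :=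
        congrArg (fun m => m.base x') (congrArg Over.Hom.left hr₁)
      have h2 : s.left.base (r.left.base x') = g.left.base (c.left.base x') :=
        congrArg (fun m => m.base x') (congrArg Over.Hom.left hr₂)
      rw [← h1, hsat, h2]
      exact ⟨_, rfl⟩
    let a' : T ⟶ U' := Over.homMk (IsOpenImmersion.lift g.left a.left hrange) (by
      rw [← Over.w g, IsOpenImmersion.lift_fac_assoc]; exact Over.w a)
    have ha' : a' ≫ g = a := Over.OverMorphism.ext (IsOpenImmersion.lift_fac _ _ _)
    have hb : a' ≫ p = b := by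
      haveI := epi_map_of_fppf q
      apply (yon S).map_injective
      rw [← cancel_epi ((yon S).map q), ← Functor.map_comp, ← Functor.map_comp, ← hc', ← Category.assoc]
      exact congrArg _ ((hiff T' (q ≫ a') c).mpr ⟨r, by rw [Category.assoc, ha', hr₁], hr₂⟩)
    refine ⟨(yon S).map a', ⟨by rw [← Functor.map_comp, ha'], by rw [← Functor.map_comp, hb]⟩, fun l hl => ?_⟩
    obtain ⟨l, rfl⟩ := (yon S).map_surjective l
    have h1 : l ≫ g = a := (yon S).map_injective (by rw [Functor.map_comp]; exact hl.1)
    exact congrArg _ ((cancel_mono g).mp (h1.trans ha'.symm))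
  have hg : RepWith @IsOpenImmersion ((yon S).map g) := (repWith_yon_map_iff (P := @IsOpenImmersion) g).2 ‹_›
  exact ⟨f, repWith_of_cover sq.flip (representable_of_cover isEffClass_openImmersion sq.flip hg) hg, sq⟩

include h in
/-- A quotient sheaf covered by quotients of invariant opens is representable. -/
theorem isRepSh_of_cover {ι : Type u} {U' X : ι → Over S} (g : ∀ i, U' i ⟶ U) [∀ i, IsOpenImmersion (g i).left]
    (p : ∀ i, U' i ⟶ X i) [∀ i, Flat (p i).left] [∀ i, LocallyOfFinitePresentation (p i).left]
    [∀ i, Surjective (p i).left]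
    (hiff : ∀ i (T : Over S) (a b : T ⟶ U' i), a ≫ p i = b ≫ p i ↔ ∃ r, r ≫ t = a ≫ g i ∧ r ≫ s = b ≫ g i)
    (hsat : ∀ i (r : R.left),
      t.left.base r ∈ Set.range (g i).left.base ↔ s.left.base r ∈ Set.range (g i).left.base)
    (hcov : ∀ x : U.left, ∃ i, x ∈ Set.range (g i).left.base) :
    IsRepSh (QuotSh.quot Scheme.fppfPrecoverage s t) := by
  choose f hf sq using fun i => exists_open_sub h (g i) (p i) (hiff i) (hsat i)
  refine isRepSh_of_openCover f hf fun T b x => ?_
  obtain ⟨T', q, a, hq₁, hq₂, hq₃, ha⟩ := exists_single_lift (qπ s t) b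
  obtain ⟨a, rfl⟩ := (yon S).map_surjective a
  obtain ⟨x', rfl⟩ := q.left.surjective x
  obtain ⟨i, hi⟩ := hcov (a.left.base x')
  refine ⟨i, ?_⟩
  let O : T'.left.Opens := a.left ⁻¹ᵁ (g i).left.opensRange
  let Oo : Over S := Over.mk (O.ι ≫ T'.hom)
  let o : Oo ⟶ T' := Over.homMk O.ι rfl
  let l : Oo ⟶ U' i := Over.homMk (IsOpenImmersion.lift (g i).left (O.ι ≫ a.left)
    (by rintro _ ⟨z, rfl⟩; exact z.2)) (by
      change _ ≫ (U' i).hom = O.ι ≫ T'.hom
      rw [← Over.w (g i), IsOpenImmersion.lift_fac_assoc, Category.assoc, Over.w a])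
  have hl : l ≫ g i = o ≫ a := Over.OverMorphism.ext (IsOpenImmersion.lift_fac _ _ _)
  let n := (hf i).rep.lift (g := b) ((yon S).map (l ≫ p i)) (o ≫ q) (by
    rw [Functor.map_comp, Functor.map_comp, Category.assoc, Category.assoc, ← (sq i).w, ← ha,
      ← Functor.map_comp_assoc, hl, Functor.map_comp_assoc])
  refine ⟨n.left ⟨x', hi⟩, ?_⟩
  have e : n ≫ (hf i).rep.snd b = o ≫ q := Functor.relativelyRepresentable.lift_snd _ _ _ _
  exact congrArg (fun m => m.left.base (⟨x', hi⟩ : O.toScheme)) e

include h in
/-- A representable quotient gives a cartesian fppf quotient map. -/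
theorem exists_quotient_of_isRepSh [Flat s.left] [LocallyOfFinitePresentation s.left] [Flat t.left]
    [LocallyOfFinitePresentation t.left] (hQ : IsRepSh (QuotSh.quot Scheme.fppfPrecoverage s t)) :
    ∃ (X : Over S) (p : U ⟶ X), IsPullback t s p p ∧ Flat p.left ∧ Surjective p.left ∧
      LocallyOfFinitePresentation p.left := by
  obtain ⟨X, ⟨e⟩⟩ := hQ
  obtain ⟨p, hp⟩ := (yon S).map_surjective (qπ s t ≫ e.inv)
  have sqY : IsPullback ((yon S).map t) ((yon S).map s) ((yon S).map p) ((yon S).map p) := by
    rw [hp]
    exact (isPullback_qπ s t h).of_iso (Iso.refl _) (Iso.refl _) (Iso.refl _) e.symm (by simp) (by simp)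
      (by simp) (by simp)
  have sq : IsPullback t s p p :=
    IsPullback.of_map (yon S) ((yon S).map_injective (by rw [Functor.map_comp, Functor.map_comp]; exact sqY.w)) sqY
  haveI : Sheaf.IsLocallySurjective (qπ s t) := inferInstance
  obtain ⟨V, q, a, hq₁, hq₂, hq₃, ha⟩ := exists_single_lift (qπ s t) e.hom
  obtain ⟨a, rfl⟩ := (yon S).map_surjective a
  have hap : a ≫ p = q := (yon S).map_injective (by
    rw [Functor.map_comp, hp, ← Category.assoc, ha, Category.assoc, Iso.hom_inv_id, Category.comp_id])
  haveI := hq₁; haveI := hq₂; haveI := hq₃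
  have sqS : IsPullback t.left s.left p.left p.left := sq.map (Over.forget S)
  have sq2 : IsPullback (pullback.snd a.left t.left ≫ s.left) (pullback.fst a.left t.left) p.left q.left := by
    rw [← hap, Over.comp_left]
    exact (IsPullback.of_hasPullback a.left t.left).flip.paste_horiz sqS.flip
  have hfst : ∀ (P : MorphismProperty Scheme.{u}) [P.IsStableUnderBaseChange]
      [P.DescendsAlong (@Surjective ⊓ @Flat ⊓ @LocallyOfFinitePresentation)], P t.left → P p.left := by
    intro P _ _ hP
    exact MorphismProperty.of_isPullback_of_descendsAlong (P := P)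
      (Q := @Surjective ⊓ @Flat ⊓ @LocallyOfFinitePresentation) sq2.flip ⟨⟨hq₃, hq₁⟩, hq₂⟩
      (MorphismProperty.pullback_fst _ _ hP)
  refine ⟨X, p, sq, hfst @Flat inferInstance, ⟨fun x => ?_⟩, hfst @LocallyOfFinitePresentation inferInstance⟩
  obtain ⟨v, rfl⟩ := q.left.surjective x
  exact ⟨a.left.base v, congrArg (fun m => m.left.base v) hap⟩

include h in
/-- Effective descent of quotients along an fppf extension of an affine base. -/
theorem isRepSh_of_baseChange [IsAffine S] {S' X' : Over S} [IsAffine S'.left] [Flat S'.hom]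
    [LocallyOfFinitePresentation S'.hom] [Surjective S'.hom] [X'.left.IsQuasiAffine]
    (p : U ⊗ S' ⟶ X') [Flat p.left] [LocallyOfFinitePresentation p.left] [Surjective p.left]
    (pW : X' ⟶ S') (hpW : p ≫ pW = snd U S')
    (hiff : ∀ (T : Over S) (a b : T ⟶ U ⊗ S'), a ≫ p = b ≫ p ↔
      (∃ r, r ≫ t = a ≫ fst U S' ∧ r ≫ s = b ≫ fst U S') ∧ a ≫ snd U S' = b ≫ snd U S') :
    IsRepSh (QuotSh.quot Scheme.fppfPrecoverage s t) := by
  haveI := isLocallySurjective_yon_map p
  haveI := epi_map_of_fppf p
  obtain ⟨f, hf⟩ := exists_desc ((yon S).map p) ((yon S).map (fst U S') ≫ qπ s t) fun T b b' e => by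
    obtain ⟨b, rfl⟩ := (yon S).map_surjective b
    obtain ⟨b', rfl⟩ := (yon S).map_surjective b'
    rw [← Functor.map_comp, ← Functor.map_comp] at e
    rw [← Functor.map_comp_assoc, ← Functor.map_comp_assoc, map_π_eq_iff h]
    exact ((hiff T b b').mp ((yon S).map_injective e)).1
  obtain ⟨π₀, hπ₀⟩ := exists_desc (qπ s t) ((yon S).map (toUnit U)) fun T b b' _ => by
    obtain ⟨b, rfl⟩ := (yon S).map_surjective b
    obtain ⟨b', rfl⟩ := (yon S).map_surjective b'
    rw [← Functor.map_comp, ← Functor.map_comp, toUnit_unique (b ≫ toUnit U) (b' ≫ toUnit U)]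
  have sq : IsPullback f ((yon S).map pW) π₀ ((yon S).map (toUnit S')) := by
    refine isPullback_of_forall_existsUnique ?_ fun T a b e => ?_
    · rw [← cancel_epi ((yon S).map p), reassoc_of% hf, hπ₀, ← Functor.map_comp, ← Functor.map_comp,
        ← Functor.map_comp]
      exact congrArg _ (toUnit_unique _ _)
    · obtain ⟨b, rfl⟩ := (yon S).map_surjective b
      obtain ⟨T', q, c, hq₁, hq₂, hq₃, hc⟩ := exists_single_lift (qπ s t) a
      obtain ⟨c, rfl⟩ := (yon S).map_surjective c
      haveI := isLocallySurjective_yon_map q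
      haveI := epi_map_of_fppf q
      let w : T' ⟶ U ⊗ S' := CartesianMonoidalCategory.lift c (q ≫ b)
      obtain ⟨l, hl⟩ := exists_desc ((yon S).map q) ((yon S).map (w ≫ p)) fun Z z z' hz => by
        obtain ⟨z, rfl⟩ := (yon S).map_surjective z
        obtain ⟨z', rfl⟩ := (yon S).map_surjective z'
        rw [← Functor.map_comp, ← Functor.map_comp, ← Category.assoc, ← Category.assoc]
        rw [← Functor.map_comp, ← Functor.map_comp] at hz
        have hz' : z ≫ q = z' ≫ q := (yon S).map_injective hz
        refine congrArg _ ((hiff Z (z ≫ w) (z' ≫ w)).mpr ⟨?_, ?_⟩)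
        · rw [← map_π_eq_iff h, Category.assoc, Category.assoc, lift_fst, Functor.map_comp, Functor.map_comp,
            Category.assoc, Category.assoc, hc, ← Category.assoc, ← Functor.map_comp, hz', Functor.map_comp,
            Category.assoc]
        · simp only [w, Category.assoc, lift_snd]
          rw [← Category.assoc, hz', Category.assoc]
      obtain ⟨l, rfl⟩ := (yon S).map_surjective l
      refine ⟨(yon S).map l, ⟨?_, ?_⟩, fun l' hl' => ?_⟩
      · rw [← cancel_epi ((yon S).map q), ← Category.assoc, hl, Functor.map_comp, Category.assoc, hf,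
          ← Functor.map_comp_assoc, lift_fst, ← hc]
      · rw [← cancel_epi ((yon S).map q), ← Category.assoc, hl, ← Functor.map_comp, Category.assoc, hpW, lift_snd,
          Functor.map_comp]
      · obtain ⟨l', rfl⟩ := (yon S).map_surjective l'
        obtain ⟨T₁, q₁, d, hd₁, hd₂, hd₃, hd⟩ := exists_single_lift ((yon S).map p) ((yon S).map l)
        obtain ⟨T₂, q₂, d', hd₁', hd₂', hd₃', hd'⟩ := exists_single_lift ((yon S).map p) ((yon S).map (q₁ ≫ l'))
        obtain ⟨d, rfl⟩ := (yon S).map_surjective d
        obtain ⟨d', rfl⟩ := (yon S).map_surjective d'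
        rw [← Functor.map_comp, ← Functor.map_comp] at hd hd'
        have e₁ := (yon S).map_injective hd
        have e₂ := (yon S).map_injective hd'
        have hl1 : (yon S).map l ≫ f = a := by
          rw [← cancel_epi ((yon S).map q), ← Category.assoc, hl, Functor.map_comp, Category.assoc, hf,
            ← Functor.map_comp_assoc, lift_fst, ← hc]
        have hl2 : l ≫ pW = b := (yon S).map_injective (by
          rw [← cancel_epi ((yon S).map q), Functor.map_comp, ← Category.assoc, hl, ← Functor.map_comp, Category.assoc,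
            hpW, lift_snd, Functor.map_comp])
        have hl2' : l' ≫ pW = b := (yon S).map_injective (by rw [Functor.map_comp]; exact hl'.2)
        have key : (q₂ ≫ d) ≫ p = d' ≫ p := by
          rw [hiff, ← map_π_eq_iff h]
          refine ⟨?_, ?_⟩
          · rw [Functor.map_comp, Category.assoc, ← hf, ← Functor.map_comp_assoc, Category.assoc, e₁,
              Functor.map_comp, Functor.map_comp, Category.assoc, Category.assoc, hl1]
            conv_rhs => rw [Functor.map_comp, Category.assoc, ← hf, ← Functor.map_comp_assoc, e₂, Functor.map_comp,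
              Functor.map_comp, Category.assoc, Category.assoc, hl'.1]
          · rw [← hpW, ← Category.assoc, ← Category.assoc, Category.assoc q₂, e₁, e₂]
            simp only [Category.assoc, hl2, hl2']
        haveI := epi_map_of_fppf q₁
        haveI := epi_map_of_fppf q₂
        rw [← cancel_epi ((yon S).map q₁), ← cancel_epi ((yon S).map q₂), ← Functor.map_comp, ← Functor.map_comp,
          ← Functor.map_comp, ← Functor.map_comp]
        exact congrArg _ (e₂.symm.trans (key.symm.trans (by rw [Category.assoc, e₁])))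
  haveI : IsAffine (𝟙_ (Over S)).left := inferInstanceAs (IsAffine S)
  haveI : Flat (toUnit S').left := inferInstanceAs (Flat S'.hom)
  haveI : LocallyOfFinitePresentation (toUnit S').left := inferInstanceAs (LocallyOfFinitePresentation S'.hom)
  haveI : Surjective (toUnit S').left := inferInstanceAs (Surjective S'.hom)
  exact Datum.isRepSh_of_quasiAffine sq

end Groth.Agent.QuotRep
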