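import Mathlib
import Groth.Agent.QuotRepLib.Rel
import Groth.Agent.SweepSix.FlatCancel

/-!
# Properties over an open spread to its saturation
-/

set_option autoImplicit false
set_option backward.isDefEq.respectTransparency false
set_option maxHeartbeats 800000

universe u

open CategoryTheory CategoryTheory.Limits MonoidalCategory CartesianMonoidalCategory AlgebraicGeometry Opposite
open AlgSp AlgSpLib

noncomputable section

namespace Groth.Agent.QuotRep

/-- Restriction of a cartesian square over open subsets. -/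
theorem isPullback_restrict {A B C D : Scheme.{u}} {a : A ⟶ B} {b : A ⟶ C} {f : B ⟶ D} {k : C ⟶ D}
    (sq : IsPullback a b f k) (O : C.Opens) (V : D.Opens) (hOV : O ≤ k ⁻¹ᵁ V) :
    ∃ l : (b ⁻¹ᵁ O).toScheme ⟶ (f ⁻¹ᵁ V).toScheme, IsPullback l (b ∣_ O) (f ∣_ V) (k.resLE V O hOV) := by
  have A := (isPullback_morphismRestrict b O).flip.paste_horiz sq
  rw [← Scheme.Hom.resLE_comp_ι k hOV] at A
  have hV' := (isPullback_morphismRestrict f V).flip
  exact ⟨_, IsPullback.of_right (h₁₁ := hV'.lift _ ((b ∣_ O) ≫ k.resLE V O hOV)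
    (A.w.trans (Category.assoc _ _ _).symm)) (v₁₁ := b ∣_ O)
    (by rw [hV'.lift_fst]; exact A) (hV'.lift_snd _ _ _) hV'⟩

/-- Flatness can be cancelled along flat surjective morphisms. -/
theorem flat_of_comp_surjective {A B C : Scheme.{u}} (f : A ⟶ B) (g : B ⟶ C) [Flat f] [Surjective f]
    [Flat (f ≫ g)] : Flat g := by
  refine (Flat.iff_flat_stalkMap g).mpr fun b => ?_
  obtain ⟨x, rfl⟩ := f.surjective b
  have h2 := (Flat.iff_flat_stalkMap (f ≫ g)).mp inferInstance x
  rw [Scheme.Hom.stalkMap_comp] at h2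
  exact SweepSix.flat_of_comp _ (f.stalkMap x).hom ((Flat.iff_flat_stalkMap f).mp inferInstance x) h2

variable {S : Scheme.{u}} {R U : Over S} {s t : R ⟶ U} (h : IsEqvRel s t) [Flat t.left]
  [LocallyOfFinitePresentation t.left]

variable (s t) in
/-- The saturation of an open subset. -/
def satOpen (V : U.left.Opens) : U.left.Opens :=
  ⟨t.left.base '' (s.left ⁻¹ᵁ V : R.left.Opens), t.left.isOpenMap _ (s.left ⁻¹ᵁ V).2⟩

include h in
theorem le_satOpen (V : U.left.Opens) : V ≤ satOpen s t V := by
  intro x hx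
  obtain ⟨e, het, hes⟩ := (h.equivalence U).refl (𝟙 U)
  have h1 : t.left.base (e.left.base x) = x := congrArg (fun m => m.left.base x) het
  have h2 : s.left.base (e.left.base x) = x := congrArg (fun m => m.left.base x) hes
  exact ⟨e.left.base x, show s.left.base _ ∈ V by rwa [h2], h1⟩

include h in
omit [Flat t.left] [LocallyOfFinitePresentation t.left] in
/-- Arrows with the same target are connected. -/
theorem exists_connect {r r₀ : R.left} (e : t.left.base r = t.left.base r₀) :
    ∃ r' : R.left, t.left.base r' = s.left.base r ∧ s.left.base r' = s.left.base r₀ := by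
  obtain ⟨z, hz₁, hz₂⟩ := Scheme.Pullback.exists_preimage_pullback (f := t.left) (g := t.left) r r₀ e
  let Z : Over S := Over.mk (pullback.fst t.left t.left ≫ R.hom)
  let p₁ : Z ⟶ R := Over.homMk (pullback.fst t.left t.left) rfl
  let p₂ : Z ⟶ R := Over.homMk (pullback.snd t.left t.left) (by
    show pullback.snd t.left t.left ≫ R.hom = pullback.fst t.left t.left ≫ R.hom
    rw [← Over.w t, pullback.condition_assoc])
  have hp : p₁ ≫ t = p₂ ≫ t := Over.OverMorphism.ext pullback.condition
  obtain ⟨c, hc₁, hc₂⟩ := (h.equivalence Z).trans ((h.equivalence Z).symm ⟨p₁, rfl, rfl⟩)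
    (⟨p₂, hp.symm, rfl⟩ : ∃ r, r ≫ t = p₁ ≫ t ∧ r ≫ s = p₂ ≫ s)
  refine ⟨c.left.base z, ?_, ?_⟩
  · refine (congrArg (fun m => m.left.base z) hc₁).trans ?_
    exact congrArg s.left.base hz₁
  · refine (congrArg (fun m => m.left.base z) hc₂).trans ?_
    exact congrArg s.left.base hz₂

include h in
omit [Flat t.left] [LocallyOfFinitePresentation t.left] in
theorem exists_inverse (r : R.left) :
    ∃ r' : R.left, t.left.base r' = s.left.base r ∧ s.left.base r' = t.left.base r := by
  obtain ⟨i, hi₁, hi₂⟩ := (h.equivalence R).symm (⟨𝟙 R, Category.id_comp _, Category.id_comp _⟩ :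
    ∃ r, r ≫ t = t ∧ r ≫ s = s)
  exact ⟨i.left.base r, congrArg (fun m => m.left.base r) hi₁, congrArg (fun m => m.left.base r) hi₂⟩

include h in
theorem satOpen_invariant (V : U.left.Opens) (r : R.left) :
    t.left.base r ∈ satOpen s t V ↔ s.left.base r ∈ satOpen s t V := by
  constructor
  · rintro ⟨r₀, hr₀, e⟩
    obtain ⟨r', h1, h2⟩ := exists_connect h e.symm
    exact ⟨r', show s.left.base r' ∈ V by rw [h2]; exact hr₀, h1⟩
  · rintro ⟨r₀, hr₀, e⟩
    obtain ⟨ri, hi1, hi2⟩ := exists_inverse h r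
    obtain ⟨r', h1, h2⟩ := exists_connect h (r := ri) (r₀ := r₀) (hi1.trans e.symm)
    exact ⟨r', show s.left.base r' ∈ V by rw [h2]; exact hr₀, h1.trans hi2⟩

include h in
/-- A property of a morphism pulled back from the quotient spreads to saturations. -/
theorem of_open (P : MorphismProperty Scheme.{u}) [P.IsStableUnderBaseChange]
    [P.DescendsAlong (@Surjective ⊓ @Flat ⊓ @LocallyOfFinitePresentation)] {U₀ P₀ : Over S}
    {a : (yon S).obj U₀ ⟶ QuotSh.quot Scheme.fppfPrecoverage s t} {pr : P₀ ⟶ U₀} {f : P₀ ⟶ U}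
    (sq : IsPullback ((yon S).map pr) ((yon S).map f) a (qπ s t)) (V : U.left.Opens) (hP : P (f.left ∣_ V)) :
    P (f.left ∣_ satOpen s t V) := by
  let mk (k : R ⟶ U) : Over S := Over.mk (pullback.snd f.left k.left ≫ R.hom)
  let q₁ (k : R ⟶ U) : mk k ⟶ P₀ := Over.homMk (pullback.fst f.left k.left) (by
    show pullback.fst f.left k.left ≫ P₀.hom = pullback.snd f.left k.left ≫ R.hom
    rw [← Over.w f, ← Over.w k, pullback.condition_assoc])
  let q₂ (k : R ⟶ U) : mk k ⟶ R := Over.homMk (pullback.snd f.left k.left) rfl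
  have hk : ∀ k : R ⟶ U, IsPullback ((yon S).map (q₁ k) ≫ (yon S).map pr) ((yon S).map (q₂ k)) a
      ((yon S).map k ≫ qπ s t) := fun k =>
    ((isPullback_over (a := q₁ k) (b := q₂ k) (c := f) (d := k) (IsPullback.of_hasPullback _ _)).map
      (yon S)).paste_horiz sq |> fun h' => h'
  have hs := hk s
  have ht := hk t
  rw [show (yon S).map s ≫ qπ s t = (yon S).map t ≫ qπ s t from qπ_condition s t] at hs
  let e := hs.isoIsPullback _ _ ht
  obtain ⟨e', he'⟩ := (yon S).map_surjective e.hom
  haveI : IsIso e' := by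
    haveI : IsIso ((yon S).map e') := he'.symm ▸ inferInstance
    exact isIso_of_reflects_iso e' (yon S)
  have hcomm : e' ≫ q₂ t = q₂ s := (yon S).map_injective (by
    rw [Functor.map_comp, he']; exact IsPullback.isoIsPullback_hom_snd _ _ _ _)
  let O : R.left.Opens := s.left ⁻¹ᵁ V
  obtain ⟨ls, hls⟩ := isPullback_restrict (IsPullback.of_hasPullback f.left s.left) O V le_rfl
  have hPs : P (pullback.snd f.left s.left ∣_ O) := MorphismProperty.of_isPullback hls hP
  have hPt : P (pullback.snd f.left t.left ∣_ O) := by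
    haveI : IsIso e'.left := ((Over.forget S).mapIso (asIso e')).isIso_hom
    have hl : e'.left ≫ pullback.snd f.left t.left = pullback.snd f.left s.left := congrArg Over.Hom.left hcomm
    have hP' : P ((e'.left ≫ pullback.snd f.left t.left) ∣_ O) := by rw [hl]; exact hPs
    rw [morphismRestrict_comp] at hP'
    exact (P.cancel_left_of_respectsIso _ _).mp hP'
  have hOW : O ≤ t.left ⁻¹ᵁ satOpen s t V := fun r hr => ⟨r, hr, rfl⟩
  obtain ⟨lt, hlt⟩ := isPullback_restrict (IsPullback.of_hasPullback f.left t.left) O (satOpen s t V) hOW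
  refine MorphismProperty.of_isPullback_of_descendsAlong (P := P)
    (Q := @Surjective ⊓ @Flat ⊓ @LocallyOfFinitePresentation) hlt.flip ⟨⟨?_, ?_⟩, ?_⟩ hPt
  · refine ⟨fun x => ?_⟩
    obtain ⟨r, hr, e⟩ := x.2
    refine ⟨⟨r, hr⟩, Subtype.ext ?_⟩
    exact (congrArg (fun m => m.base (⟨r, hr⟩ : O.toScheme))
      (Scheme.Hom.resLE_comp_ι t.left hOW)).trans e
  · haveI : Flat (t.left.resLE (satOpen s t V) O hOW) := inferInstance
    assumption
  · haveI : LocallyOfFinitePresentation (t.left.resLE (satOpen s t V) O hOW) := inferInstance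
    assumption

end Groth.Agent.QuotRep
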