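import Mathlib
import Groth.Agent.QuotRepLib.Saturate
import Groth.Agent.QuotRepLib.Finite
import Groth.Agent.QFSectLib.SliceEqv

/-!
# Equivalence relations from kernel pairs
-/

set_option autoImplicit false
set_option backward.isDefEq.respectTransparency false
set_option maxHeartbeats 800000

universe u

open CategoryTheory CategoryTheory.Limits MonoidalCategory CartesianMonoidalCategory AlgebraicGeometry Opposite
open AlgSp AlgSpLib

noncomputable section

namespace Groth.Agent.QuotRep

variable {S : Scheme.{u}} {R U : Over S} {s t : R ⟶ U}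

theorem isRel_of_isEqvRel (h : IsEqvRel s t) : QFSectLib.IsRel s.left t.left := by
  refine ⟨fun T a b h1 h2 => ?_, ?_, fun T a => ?_, fun T a b hab => ?_⟩
  · have e : b ≫ R.hom = a ≫ R.hom := by rw [← Over.w s, reassoc_of% h1]
    exact congrArg CommaMorphism.left (h.injective (Over.mk (a ≫ R.hom)) (Over.homMk a rfl) (Over.homMk b e)
      (Over.OverMorphism.ext h2) (Over.OverMorphism.ext h1))
  · obtain ⟨e, h1, h2⟩ := (h.equivalence U).refl (𝟙 U)
    exact ⟨e.left, congrArg CommaMorphism.left h2, congrArg CommaMorphism.left h1⟩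
  · obtain ⟨b, h1, h2⟩ := (h.equivalence (Over.mk (a ≫ R.hom))).symm ⟨Over.homMk a rfl, rfl, rfl⟩
    exact ⟨b.left, congrArg CommaMorphism.left h1, congrArg CommaMorphism.left h2⟩
  · have e : b ≫ R.hom = a ≫ R.hom := by
      conv_lhs => rw [← Over.w t]
      rw [← reassoc_of% hab, Over.w s]
    let T' : Over S := Over.mk (a ≫ R.hom)
    let α : T' ⟶ R := Over.homMk a rfl
    let β : T' ⟶ R := Over.homMk b e
    obtain ⟨c, h1, h2⟩ := (h.equivalence T').trans (x := α ≫ t) (y := α ≫ s) (z := β ≫ s) ⟨α, rfl, rfl⟩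
      ⟨β, Over.OverMorphism.ext hab.symm, rfl⟩
    exact ⟨c.left, congrArg CommaMorphism.left h1, congrArg CommaMorphism.left h2⟩

/-- A kernel pair is an equivalence relation. -/
theorem isEqvRel_of_isPullback {X : Sp S} {a : (yon S).obj U ⟶ X}
    (sq : IsPullback ((yon S).map t) ((yon S).map s) a a) : IsEqvRel s t := by
  have hlift : ∀ (T : Over S) (x y : T ⟶ U), (yon S).map x ≫ a = (yon S).map y ≫ a →
      ∃ r, r ≫ t = x ∧ r ≫ s = y := fun T x y hxy => by
    obtain ⟨r, hr⟩ := (yon S).map_surjective (sq.lift _ _ hxy)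
    exact ⟨r, (yon S).map_injective (by rw [Functor.map_comp, hr, sq.lift_fst]),
      (yon S).map_injective (by rw [Functor.map_comp, hr, sq.lift_snd])⟩
  have hkey : ∀ (T : Over S) (x y : T ⟶ U), (∃ r, r ≫ t = x ∧ r ≫ s = y) →
      (yon S).map x ≫ a = (yon S).map y ≫ a := by
    rintro T _ _ ⟨r, rfl, rfl⟩
    rw [(yon S).map_comp r t, (yon S).map_comp r s, Category.assoc, Category.assoc, sq.w]
  exact ⟨fun T r r' h1 h2 => (yon S).map_injective (sq.hom_ext
      (by rw [← Functor.map_comp, ← Functor.map_comp, h1]) (by rw [← Functor.map_comp, ← Functor.map_comp, h2])),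
    fun T => ⟨fun x => hlift T x x rfl, fun h1 => hlift T _ _ (hkey T _ _ h1).symm,
      fun h1 h2 => hlift T _ _ ((hkey T _ _ h1).trans (hkey T _ _ h2))⟩⟩

theorem exists_inverse_iso (h : IsEqvRel s t) : ∃ e : R ⟶ R, IsIso e.left ∧ e.left ≫ s.left = t.left := by
  obtain ⟨e, he₁, he₂⟩ := (h.equivalence R).symm (⟨𝟙 R, Category.id_comp _, Category.id_comp _⟩ :
    ∃ r, r ≫ t = t ∧ r ≫ s = s)
  have hee : e ≫ e = 𝟙 R := h.injective R _ _ (by rw [Category.assoc, he₁, he₂, Category.id_comp])
    (by rw [Category.assoc, he₂, he₁, Category.id_comp])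
  haveI : IsIso e := ⟨e, hee, hee⟩
  exact ⟨e, inferInstanceAs (IsIso ((Over.forget S).map e)), by rw [← Over.comp_left, he₂]⟩

/-- Comparison maps out of quotients by kernel pairs are monomorphisms. -/
theorem mono_of_kernelPair {M : Over S} {m : U ⟶ M} [Flat m.left] [LocallyOfFinitePresentation m.left]
    [Surjective m.left] (hm : t ≫ m = s ≫ m) {X : Sp S} {a : (yon S).obj U ⟶ X}
    (sq : IsPullback ((yon S).map t) ((yon S).map s) a a) {ψ : (yon S).obj M ⟶ X}
    (hψ : (yon S).map m ≫ ψ = a) {T : Over S} {x y : T ⟶ M}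
    (e : (yon S).map x ≫ ψ = (yon S).map y ≫ ψ) : x = y := by
  haveI := isLocallySurjective_yon_map m
  obtain ⟨T₁, q₁, c, hc₁, hc₂, hc₃, hc⟩ := exists_single_lift ((yon S).map m) ((yon S).map x)
  obtain ⟨c, rfl⟩ := (yon S).map_surjective c
  obtain ⟨T₂, q₂, d, hd₁, hd₂, hd₃, hd⟩ := exists_single_lift ((yon S).map m) ((yon S).map (q₁ ≫ y))
  obtain ⟨d, rfl⟩ := (yon S).map_surjective d
  rw [← Functor.map_comp, ← Functor.map_comp] at hc hd
  have hc' : c ≫ m = q₁ ≫ x := (yon S).map_injective hc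
  have hd' : d ≫ m = q₂ ≫ q₁ ≫ y := (yon S).map_injective hd
  have key : (yon S).map (q₂ ≫ c) ≫ a = (yon S).map d ≫ a := by
    rw [← hψ, ← Functor.map_comp_assoc, ← Functor.map_comp_assoc, hd', Category.assoc, hc']
    simp only [Functor.map_comp, Category.assoc, e]
  obtain ⟨r, hr⟩ := (yon S).map_surjective (sq.lift _ _ key)
  have h1 : r ≫ t = q₂ ≫ c := (yon S).map_injective (by rw [Functor.map_comp, hr, sq.lift_fst])
  have h2 : r ≫ s = d := (yon S).map_injective (by rw [Functor.map_comp, hr, sq.lift_snd])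
  haveI := epi_map_of_fppf q₁
  haveI := epi_map_of_fppf q₂
  apply (yon S).map_injective
  rw [← cancel_epi ((yon S).map q₁), ← cancel_epi ((yon S).map q₂), ← Functor.map_comp, ← Functor.map_comp,
    ← Functor.map_comp, ← Functor.map_comp]
  refine congrArg _ ?_
  rw [← hd', ← hc', ← h2, ← Category.assoc q₂, ← h1, Category.assoc, Category.assoc, hm]

end Groth.Agent.QuotRep
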