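import Mathlib
import Groth.Agent.QuotRepLib.KernelPair

/-!
# Restriction of equivalence relations to invariant opens
-/

set_option autoImplicit false
set_option backward.isDefEq.respectTransparency false
set_option maxHeartbeats 800000

universe u

open CategoryTheory CategoryTheory.Limits MonoidalCategory CartesianMonoidalCategory AlgebraicGeometry Opposite
open AlgSp AlgSpLib

noncomputable section

namespace Groth.Agent.QuotRep

variable {S : Scheme.{u}}

theorem isPullback_whiskerRight {X Y : Over S} (f : X ⟶ Y) (Z : Over S) :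
    IsPullback (f ▷ Z).left (fst X Z).left (fst Y Z).left f.left := by
  refine IsPullback.of_right (h₁₂ := (snd Y Z).left) (v₁₃ := Z.hom) (h₂₂ := Y.hom) ?_
    (congrArg Over.Hom.left (whiskerRight_fst f Z)) (IsPullback.of_hasPullback Y.hom Z.hom).flip
  rw [← Over.comp_left, whiskerRight_snd, Over.w f]
  exact (IsPullback.of_hasPullback X.hom Z.hom).flip

theorem whiskerRight_left (P : MorphismProperty Scheme.{u}) [P.IsStableUnderBaseChange] {X Y : Over S} (f : X ⟶ Y)
    (Z : Over S) (hf : P f.left) : P (f ▷ Z).left :=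
  MorphismProperty.of_isPullback (isPullback_whiskerRight f Z).flip hf

variable {R U : Over S} {s t : R ⟶ U}

/-- Restriction of an equivalence relation to an invariant open. -/
theorem exists_restrict (h : IsEqvRel s t) [Flat s.left] [LocallyOfFinitePresentation s.left] [Flat t.left]
    [LocallyOfFinitePresentation t.left] (Ω : U.left.Opens)
    (hinv : ∀ r : R.left, t.left.base r ∈ Ω ↔ s.left.base r ∈ Ω) :
    ∃ (R₀ U₀ : Over S) (s₀ t₀ : R₀ ⟶ U₀) (g : U₀ ⟶ U), IsEqvRel s₀ t₀ ∧ IsOpenImmersion g.left ∧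
      Set.range g.left.base = Ω ∧ Flat s₀.left ∧ LocallyOfFinitePresentation s₀.left ∧ Flat t₀.left ∧
      LocallyOfFinitePresentation t₀.left ∧
      ∀ (T : Over S) (a b : T ⟶ U₀), (∃ r, r ≫ t₀ = a ∧ r ≫ s₀ = b) ↔ ∃ r, r ≫ t = a ≫ g ∧ r ≫ s = b ≫ g := by
  let OR : R.left.Opens := t.left ⁻¹ᵁ Ω
  let U₀ : Over S := Over.mk (Ω.ι ≫ U.hom)
  let g : U₀ ⟶ U := Over.homMk Ω.ι rfl
  let R₀ : Over S := Over.mk (OR.ι ≫ R.hom)
  let ιR : R₀ ⟶ R := Over.homMk OR.ι rfl
  have hOs : OR ≤ s.left ⁻¹ᵁ Ω := fun r hr => (hinv r).mp hr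
  let t₀ : R₀ ⟶ U₀ := Over.homMk (t.left.resLE Ω OR le_rfl) (by
    show t.left.resLE Ω OR _ ≫ Ω.ι ≫ U.hom = OR.ι ≫ R.hom
    rw [Scheme.Hom.resLE_comp_ι_assoc, Over.w t])
  let s₀ : R₀ ⟶ U₀ := Over.homMk (s.left.resLE Ω OR hOs) (by
    show s.left.resLE Ω OR _ ≫ Ω.ι ≫ U.hom = OR.ι ≫ R.hom
    rw [Scheme.Hom.resLE_comp_ι_assoc, Over.w s])
  haveI : Mono g := Over.mono_of_mono_left g
  haveI : Mono ιR := Over.mono_of_mono_left ιR
  have ht₀ : t₀ ≫ g = ιR ≫ t := Over.OverMorphism.ext (Scheme.Hom.resLE_comp_ι _ _)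
  have hs₀ : s₀ ≫ g = ιR ≫ s := Over.OverMorphism.ext (Scheme.Hom.resLE_comp_ι _ _)
  have hiff : ∀ (T : Over S) (a b : T ⟶ U₀),
      (∃ r, r ≫ t₀ = a ∧ r ≫ s₀ = b) ↔ ∃ r, r ≫ t = a ≫ g ∧ r ≫ s = b ≫ g := by
    intro T a b
    constructor
    · rintro ⟨r, rfl, rfl⟩
      exact ⟨r ≫ ιR, by rw [Category.assoc, Category.assoc, ht₀], by rw [Category.assoc, Category.assoc, hs₀]⟩
    · rintro ⟨r, h1, h2⟩
      have hr : Set.range r.left.base ⊆ Set.range OR.ι.base := by
        rintro _ ⟨x, rfl⟩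
        rw [Scheme.Opens.range_ι]
        show t.left.base (r.left.base x) ∈ Ω
        rw [show t.left.base (r.left.base x) = g.left.base (a.left.base x) from congrArg (fun m => m.left.base x) h1]
        exact (a.left.base x).2
      let r₀ : T ⟶ R₀ := Over.homMk (IsOpenImmersion.lift OR.ι r.left hr) (by
        show _ ≫ OR.ι ≫ R.hom = T.hom
        rw [IsOpenImmersion.lift_fac_assoc, Over.w r])
      have hr₀ : r₀ ≫ ιR = r := Over.OverMorphism.ext (IsOpenImmersion.lift_fac _ _ _)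
      exact ⟨r₀, (cancel_mono g).mp (by rw [Category.assoc, ht₀, reassoc_of% hr₀, h1]),
        (cancel_mono g).mp (by rw [Category.assoc, hs₀, reassoc_of% hr₀, h2])⟩
  refine ⟨R₀, U₀, s₀, t₀, g, ⟨fun T r r' h1 h2 => ?_, fun T => ?_⟩, inferInstanceAs (IsOpenImmersion Ω.ι),
    Scheme.Opens.range_ι Ω, inferInstanceAs (Flat (s.left.resLE Ω OR hOs)),
    inferInstanceAs (LocallyOfFinitePresentation (s.left.resLE Ω OR hOs)),
    inferInstanceAs (Flat (t.left.resLE Ω OR le_rfl)),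
    inferInstanceAs (LocallyOfFinitePresentation (t.left.resLE Ω OR le_rfl)), hiff⟩
  · rw [← cancel_mono ιR]
    refine h.injective T _ _ ?_ ?_
    · rw [Category.assoc, Category.assoc, ← ht₀, ← Category.assoc, ← Category.assoc, h1]
    · rw [Category.assoc, Category.assoc, ← hs₀, ← Category.assoc, ← Category.assoc, h2]
  · exact ⟨fun x => (hiff T x x).mpr ((h.equivalence T).refl _),
      fun e => (hiff T _ _).mpr ((h.equivalence T).symm ((hiff T _ _).mp e)),
      fun e e' => (hiff T _ _).mpr ((h.equivalence T).trans ((hiff T _ _).mp e) ((hiff T _ _).mp e'))⟩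

end Groth.Agent.QuotRep
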