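import Mathlib
import Groth.Agent.QuotRepLib.KernelPair
import Groth.Agent.QFSectLib.SlicePoint
import Groth.Agent.AlgSpLib.Reduced

/-!
# Transfer of quotients from a finite slice
-/

set_option autoImplicit false
set_option backward.isDefEq.respectTransparency false
set_option maxHeartbeats 1600000

universe u

open CategoryTheory CategoryTheory.Limits MonoidalCategory CartesianMonoidalCategory AlgebraicGeometry Opposite
open AlgSp AlgSpLib

noncomputable section

namespace Groth.Agent.QuotRep

theorem isPullback_of_comp_mono {C : Type*} [Category C] {P X Y Z W : C} {a : P ⟶ X} {b : P ⟶ Y} {c : X ⟶ Z}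
    {d : Y ⟶ Z} {i : Z ⟶ W} [Mono i] (h : IsPullback a b (c ≫ i) (d ≫ i)) : IsPullback a b c d :=
  IsPullback.of_isLimit' ⟨(cancel_mono i).1 (by rw [Category.assoc, Category.assoc, h.w])⟩
    (PullbackCone.IsLimit.mk _
      (fun s => h.lift s.fst s.snd (by rw [← Category.assoc, s.condition, Category.assoc]))
      (fun s => h.lift_fst _ _ _) (fun s => h.lift_snd _ _ _)
      (fun s m h1 h2 => h.hom_ext (h1.trans (h.lift_fst _ _ _).symm) (h2.trans (h.lift_snd _ _ _).symm)))

variable {S : Scheme.{u}} {R U : Over S} {s t : R ⟶ U} (h : IsEqvRel s t)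

include h in
/-- A finite flat slice of the restricted relation gives a scheme quotient. -/
theorem exists_quotient_slice {W Z P : Over S} (gW : W ⟶ U) (gz : Z ⟶ W) (prW : P ⟶ Z) (fW : P ⟶ W)
    [IsFinite fW.left] [Flat fW.left] [LocallyOfFinitePresentation fW.left] [Surjective fW.left]
    [Flat prW.left] [LocallyOfFinitePresentation prW.left] [Surjective prW.left]
    (sq : IsPullback ((yon S).map prW) ((yon S).map fW) ((yon S).map (gz ≫ gW) ≫ qπ s t) ((yon S).map gW ≫ qπ s t))
    (hb : ∀ F : Set Z.left, F.Finite → ∃ V : Z.left.Opens, IsAffineOpen V ∧ F ⊆ V) :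
    ∃ (M : Over S) (p : W ⟶ M), Flat p.left ∧ LocallyOfFinitePresentation p.left ∧ Surjective p.left ∧
      (IsLocallyNoetherian Z.left → IsLocallyNoetherian M.left) ∧
      ∀ (T : Over S) (a b : T ⟶ W), a ≫ p = b ≫ p ↔ ∃ r, r ≫ t = a ≫ gW ∧ r ≫ s = b ≫ gW := by
  let a' := (yon S).map (gz ≫ gW) ≫ qπ s t
  let R' : Over S := Over.mk (pullback.snd fW.left gz.left ≫ Z.hom)
  let s' : R' ⟶ Z := Over.homMk (pullback.snd fW.left gz.left) rfl
  let q : R' ⟶ P := Over.homMk (pullback.fst fW.left gz.left) (by
    show pullback.fst fW.left gz.left ≫ P.hom = pullback.snd fW.left gz.left ≫ Z.hom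
    rw [← Over.w fW, ← Over.w gz, pullback.condition_assoc])
  have sqR : IsPullback q s' fW gz := isPullback_over (IsPullback.of_hasPullback fW.left gz.left)
  let t' : R' ⟶ Z := q ≫ prW
  have sq' : IsPullback ((yon S).map t') ((yon S).map s') a' a' := by
    have h1 := (sqR.map (yon S)).paste_horiz sq
    rw [← Functor.map_comp, ← Category.assoc, ← Functor.map_comp] at h1
    exact h1
  have h' := isEqvRel_of_isPullback sq'
  haveI hs1 : Flat s'.left := inferInstanceAs (Flat (pullback.snd fW.left gz.left))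
  haveI hs2 : LocallyOfFinitePresentation s'.left :=
    inferInstanceAs (LocallyOfFinitePresentation (pullback.snd fW.left gz.left))
  haveI hs3 : IsFinite s'.left := inferInstanceAs (IsFinite (pullback.snd fW.left gz.left))
  obtain ⟨e, he, het⟩ := exists_inverse_iso h'
  haveI := he
  haveI : Flat t'.left := by rw [← het]; infer_instance
  haveI : LocallyOfFinitePresentation t'.left := by rw [← het]; infer_instance
  haveI : IsFinite t'.left := by rw [← het]; infer_instance
  have hQ : IsRepSh (QuotSh.quot Scheme.fppfPrecoverage s' t') :=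
    isRepSh_of_finite_relation (isPullback_qπ s' t' h') fun z => by
      obtain ⟨V, hV, hF⟩ := hb _ ((s'.left.finite_preimage_singleton z).image t'.left.base)
      exact ⟨V, hV, fun r hr => hF ⟨r, hr, rfl⟩⟩
  obtain ⟨M, m, sqm, hm1, hm2, hm3⟩ := exists_quotient_of_isRepSh h' hQ
  haveI := hm1; haveI := hm2; haveI := hm3
  haveI := epi_map_of_fppf m
  haveI := epi_map_of_fppf fW
  haveI := isLocallySurjective_yon_map m
  haveI := isLocallySurjective_yon_map fW
  have hrel : ∀ {T : Over S} (z z' : T ⟶ Z), (yon S).map z ≫ a' = (yon S).map z' ≫ a' ↔ z ≫ m = z' ≫ m := by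
    intro T z z'
    constructor
    · intro e
      obtain ⟨r, hr⟩ := (yon S).map_surjective (sq'.lift _ _ e)
      have h1 : r ≫ t' = z := (yon S).map_injective (by rw [Functor.map_comp, hr, sq'.lift_fst])
      have h2 : r ≫ s' = z' := (yon S).map_injective (by rw [Functor.map_comp, hr, sq'.lift_snd])
      exact (congrArg (· ≫ m) h1.symm).trans ((Category.assoc _ _ _).trans ((congrArg (r ≫ ·) sqm.w).trans
        ((Category.assoc _ _ _).symm.trans (congrArg (· ≫ m) h2))))
    · intro e
      obtain ⟨l, h1, h2⟩ : ∃ l, l ≫ t' = z ∧ l ≫ s' = z' := ⟨_, sqm.lift_fst _ _ e, sqm.lift_snd _ _ e⟩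
      rw [← h1, ← h2, (yon S).map_comp l t', (yon S).map_comp l s', Category.assoc, Category.assoc, sq'.w]
  obtain ⟨ψ, hψ⟩ := exists_desc ((yon S).map m) a' fun T b b' e => by
    obtain ⟨b, rfl⟩ := (yon S).map_surjective b
    obtain ⟨b', rfl⟩ := (yon S).map_surjective b'
    rw [← Functor.map_comp, ← Functor.map_comp] at e
    exact (hrel b b').mpr ((yon S).map_injective e)
  obtain ⟨p0, hp0⟩ := exists_desc ((yon S).map fW) ((yon S).map (prW ≫ m)) fun T b b' e => by
    obtain ⟨b, rfl⟩ := (yon S).map_surjective b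
    obtain ⟨b', rfl⟩ := (yon S).map_surjective b'
    rw [← Functor.map_comp, ← Functor.map_comp] at e ⊢
    refine congrArg _ ?_
    rw [← Category.assoc, ← Category.assoc, ← hrel, Functor.map_comp, Functor.map_comp, Category.assoc,
      Category.assoc]
    show _ ≫ (yon S).map prW ≫ (yon S).map (gz ≫ gW) ≫ qπ s t = _ ≫ (yon S).map prW ≫ (yon S).map (gz ≫ gW) ≫ qπ s t
    rw [sq.w, ← Functor.map_comp_assoc, (yon S).map_injective e, Functor.map_comp_assoc]
  obtain ⟨p, rfl⟩ := (yon S).map_surjective p0
  have hpm : fW ≫ p = prW ≫ m := (yon S).map_injective (by rw [Functor.map_comp]; exact hp0)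
  have hpψ : (yon S).map p ≫ ψ = (yon S).map gW ≫ qπ s t := by
    rw [← cancel_epi ((yon S).map fW), ← sq.w, ← Functor.map_comp_assoc, hpm, Functor.map_comp, Category.assoc, hψ]
  have hmono : ∀ {T : Over S} {x y : T ⟶ M}, (yon S).map x ≫ ψ = (yon S).map y ≫ ψ → x = y :=
    fun e => mono_of_kernelPair sqm.w sq' hψ e
  haveI : Mono ψ := mono_of_injective fun T x y e => by
    obtain ⟨x, rfl⟩ := (yon S).map_surjective x
    obtain ⟨y, rfl⟩ := (yon S).map_surjective y
    exact congrArg _ (hmono e)
  have sqM : IsPullback ((yon S).map prW) ((yon S).map fW) ((yon S).map m) ((yon S).map p) :=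
    isPullback_of_comp_mono (i := ψ) (by rw [hψ, hpψ]; exact sq)
  have sqL : IsPullback prW.left fW.left m.left p.left :=
    (IsPullback.of_map (yon S) ((yon S).map_injective (by rw [Functor.map_comp, Functor.map_comp]; exact sqM.w))
      sqM).map (Over.forget S)
  have hq : (@Surjective ⊓ @Flat ⊓ @LocallyOfFinitePresentation : MorphismProperty Scheme.{u}) m.left :=
    ⟨⟨hm2, hm1⟩, hm3⟩
  refine ⟨M, p, ?_, ?_, ⟨fun x => ?_⟩, fun hZ => isLocallyNoetherian_of_fppf_surjective m.left, fun T a b => ?_⟩
  · exact MorphismProperty.of_isPullback_of_descendsAlong (P := @Flat) sqL hq inferInstance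
  · exact MorphismProperty.of_isPullback_of_descendsAlong (P := @LocallyOfFinitePresentation) sqL hq inferInstance
  · obtain ⟨z, rfl⟩ := m.left.surjective x
    obtain ⟨w, rfl⟩ := prW.left.surjective z
    exact ⟨fW.left.base w, congrArg (fun k => k.left.base w) hpm⟩
  · rw [← map_π_eq_iff h, Functor.map_comp, Functor.map_comp, Category.assoc, Category.assoc, ← hpψ,
      ← Category.assoc, ← Category.assoc, ← Functor.map_comp, ← Functor.map_comp]
    exact ⟨fun e => by rw [e], hmono⟩

end Groth.Agent.QuotRep
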