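import Mathlib
import Groth.Agent.QuotRepLib.KernelPair
import Groth.Agent.GrpHomLib.Generic
import Groth.Agent.AlgSpLib.FpqcMore
import Groth.Agent.GrpFieldLib.Extra
import Groth.Agent.S2080

/-!
# Points and quasi-sections over an artinian base
-/

set_option autoImplicit false
set_option backward.isDefEq.respectTransparency false
set_option maxHeartbeats 800000

universe u

open CategoryTheory CategoryTheory.Limits MonoidalCategory CartesianMonoidalCategory AlgebraicGeometry Opposite
open AlgSp AlgSpLib Groth.Agent.HomogDense

noncomputable section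

namespace Groth.Agent.QuotRep

/-- Over a one-point base, quasi-compact separated morphisms with finitely many points are finite. -/
theorem isFinite_of_subsingleton {X Y : Scheme.{u}} [Subsingleton ↥Y] (f : X ⟶ Y) [LocallyOfFiniteType f]
    [QuasiCompact f] [QuasiSeparated f] (hfin : ∀ η : Y, (f.base ⁻¹' {η}).Finite) : IsFinite f := by
  refine IsZariskiLocalAtTarget.of_forall_exists_morphismRestrict (P := @IsFinite) fun y => ?_
  obtain ⟨V, -, hV, hf⟩ := (Groth.Agent.S2080.result f y (closure_mem_irreducibleComponents
    fun z _ => Subsingleton.elim z y)).mp (hfin y)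
  exact ⟨V, hV, hf⟩

variable {S : Scheme.{u}} [Subsingleton ↥S]

/-- Closed points are finite and universally open over a one-point base. -/
theorem closedPoint_props [IsAffine S] {G : Over S} [LocallyOfFiniteType G.hom] {x : G.left}
    (hx : IsClosed ({x} : Set G.left)) :
    IsFinite (G.left.fromSpecResidueField x ≫ G.hom) ∧
      UniversallyOpen (G.left.fromSpecResidueField x ≫ G.hom) := by
  haveI := isClosed_singleton_iff_isClosedImmersion.mp hx
  haveI : IsAffine (Spec (G.left.residueField x)) := inferInstance
  constructor
  · exact isFinite_of_subsingleton _ fun η => Set.toFinite _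
  · rw [← Scheme.Hom.SpecMap_residueFieldMap_fromSpecResidueField G.hom x]
    haveI : IsClosedImmersion (S.fromSpecResidueField (G.hom.base x)) :=
      isClosed_singleton_iff_isClosedImmersion.mp (by rw [Set.subsingleton_univ.eq_singleton_of_mem (Set.mem_univ _) |>.symm]; exact isClosed_univ)
    haveI : Surjective (S.fromSpecResidueField (G.hom.base x)) :=
      ⟨fun y => ⟨Classical.arbitrary _, Subsingleton.elim _ _⟩⟩
    haveI := GrpField.universallyOpen_of_surjective_closedImmersion (S.fromSpecResidueField (G.hom.base x))
    haveI : UniversallyOpen (Spec.map (G.hom.residueFieldMap x)) := by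
      haveI : LocallyOfFiniteType (Spec.map (G.hom.residueFieldMap x) ≫ S.fromSpecResidueField (G.hom.base x)) := by
        rw [Scheme.Hom.SpecMap_residueFieldMap_fromSpecResidueField]; infer_instance
      haveI : LocallyOfFiniteType (Spec.map (G.hom.residueFieldMap x)) :=
        locallyOfFiniteType_of_comp _ (S.fromSpecResidueField (G.hom.base x))
      infer_instance
    infer_instance

omit [Subsingleton ↥S] in
/-- A point over a maximal point is maximal when specializations in finite fibres are trivial. -/
theorem isMax_of_isFinite {X Y : Scheme.{u}} (f : X ⟶ Y) [IsFinite f] {z : X} (hz : IsMaxPt (f.base z)) :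
    IsMaxPt z := fun z' h => by
  have e : f.base z' = f.base z := hz _ (h.map f.continuous)
  by_contra hne
  haveI : DiscreteTopology (f.base ⁻¹' {f.base z} : Set X) := (f.isDiscrete_preimage_singleton _).1
  have h' : (⟨z', e⟩ : (f.base ⁻¹' {f.base z} : Set X)) ⤳ ⟨z, rfl⟩ := Topology.IsInducing.subtypeVal.specializes_iff.mp h
  exact hne (congrArg Subtype.val h'.eq)

omit [Subsingleton ↥S] in
/-- Open maps with finite fibres send maximal points to maximal points. -/
theorem isMax_image {X Y : Scheme.{u}} (f : X ⟶ Y) [UniversallyOpen f] (hfin : ∀ y, (f.base ⁻¹' {y}).Finite)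
    {z : X} (hz : IsMaxPt z) : IsMaxPt (f.base z) := fun y hy => by
  by_contra hne
  have hN : ∀ a ∈ f.base ⁻¹' {y}, ∃ O : Set X, IsOpen O ∧ z ∈ O ∧ a ∉ O := fun a ha => by
    have : ¬ a ⤳ z := fun h => hne (by rw [← hz a h]; exact ha.symm)
    rw [specializes_iff_forall_open] at this
    push Not at this
    exact this
  choose O hO hzO haO using hN
  haveI := (hfin y).to_subtype
  obtain ⟨a, ha, e⟩ := hy.mem_open (f.isOpenMap _
    (isOpen_iInter_of_finite fun a : (f.base ⁻¹' {y} : Set X) => hO a.1 a.2))
    ⟨z, Set.mem_iInter.mpr fun a => hzO a.1 a.2, rfl⟩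
  exact haO a e (Set.mem_iInter.mp ha ⟨a, e⟩)

end Groth.Agent.QuotRep
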