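import Mathlib
import Groth.Agent.QuotRepLib.Artin
import Groth.Agent.AlgSpLib.AffineDescent

/-!
# Finite flat quasi-sections over an artinian base
-/

set_option autoImplicit false
set_option backward.isDefEq.respectTransparency false
set_option maxHeartbeats 800000

universe u

open CategoryTheory CategoryTheory.Limits AlgebraicGeometry Opposite
open AlgSp AlgSpLib

noncomputable section

namespace Groth.Agent.QuotRep

variable {S : Scheme.{u}} [IsAffine S] [Subsingleton ↥S]

/-- A nonempty open of a flat scheme of finite presentation over a one-point base contains a finite flat quasi-section. -/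
theorem exists_quasiSection (G : Over S) [Flat G.hom] [LocallyOfFinitePresentation G.hom] {O : G.left.Opens}
    {η : G.left} (hη : η ∈ O) :
    ∃ (S' : Over S) (y : S' ⟶ G), IsAffine S'.left ∧ IsFinite S'.hom ∧ Flat S'.hom ∧
      LocallyOfFinitePresentation S'.hom ∧ Surjective S'.hom ∧ Set.range y.left.base ⊆ O := by
  obtain ⟨O', hO', hηO', hO'O⟩ := exists_isAffineOpen_mem_and_subset (X := G.left) (x := η) (U := O) hη
  haveI : IsAffine O'.toScheme := hO'
  let a : O'.toScheme ⟶ S := O'.ι ≫ G.hom
  haveI : Surjective a := ⟨fun y => ⟨⟨η, hηO'⟩, Subsingleton.elim _ _⟩⟩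
  haveI : QuasiCompact a := inferInstance
  let s := pullback.snd a a
  let t := pullback.fst a a
  have hrel : QFSectLib.IsRel s t :=
    ⟨fun T x y h1 h2 => pullback.hom_ext h2 h1,
      ⟨pullback.lift (𝟙 _) (𝟙 _) rfl, pullback.lift_snd _ _ _, pullback.lift_fst _ _ _⟩,
      fun T x => ⟨pullback.lift (x ≫ s) (x ≫ t) (by simp [s, t, pullback.condition]),
        pullback.lift_fst _ _ _, pullback.lift_snd _ _ _⟩,
      fun T x y h => ⟨pullback.lift (x ≫ t) (y ≫ s) (by
          simp only [Category.assoc, s, t]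
          rw [← pullback.condition (f := a) (g := a), ← Category.assoc y, ← h, Category.assoc, ← pullback.condition]),
        pullback.lift_fst _ _ _, pullback.lift_snd _ _ _⟩⟩
  obtain ⟨U', g, hg, hhf, hhp, hhq, hhs⟩ := QFSectLib.exists_qf_slices hrel
  let φ := pullback.snd g t ≫ s
  have sq : IsPullback φ (pullback.fst g t) a (g ≫ a) :=
    (IsPullback.of_hasPullback g t).flip.paste_horiz (IsPullback.of_hasPullback a a).flip
  have hq : (@Surjective ⊓ @Flat ⊓ @QuasiCompact : MorphismProperty Scheme.{u}) a :=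
    ⟨⟨‹_›, inferInstance⟩, ‹_›⟩
  have hq' : (@Surjective ⊓ @Flat ⊓ @LocallyOfFinitePresentation : MorphismProperty Scheme.{u}) a :=
    ⟨⟨‹_›, inferInstance⟩, inferInstance⟩
  haveI : Flat (g ≫ a) := MorphismProperty.of_isPullback_of_descendsAlong (P := @Flat) sq hq' hhf
  haveI : LocallyOfFinitePresentation (g ≫ a) :=
    MorphismProperty.of_isPullback_of_descendsAlong (P := @LocallyOfFinitePresentation) sq hq' hhp
  haveI : LocallyQuasiFinite (g ≫ a) :=
    MorphismProperty.of_isPullback_of_descendsAlong (P := @LocallyQuasiFinite) sq hq hhq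
  obtain ⟨z, -⟩ := hhs.surj ⟨η, hηO'⟩
  obtain ⟨V, hV, hxV, -⟩ :=
    exists_isAffineOpen_mem_and_subset (X := U') (x := (pullback.fst g t).base z) (U := ⊤) trivial
  haveI : IsAffine V.toScheme := hV
  let f : V.toScheme ⟶ S := V.ι ≫ g ≫ a
  haveI : Surjective f := ⟨fun y => ⟨⟨_, hxV⟩, Subsingleton.elim _ _⟩⟩
  refine ⟨Over.mk f, Over.homMk (V.ι ≫ g ≫ O'.ι) (by show (V.ι ≫ g ≫ O'.ι) ≫ G.hom = f; simp [f, a]), hV,
    isFinite_of_subsingleton f fun y => f.finite_preimage_singleton y, inferInstanceAs (Flat f),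
    inferInstanceAs (LocallyOfFinitePresentation f), ‹Surjective f›, ?_⟩
  rintro _ ⟨v, rfl⟩
  exact hO'O ((V.ι ≫ g).base v).2

end Groth.Agent.QuotRep
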