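import Mathlib
import Groth.Agent.QuotRepLib.Transfer
import Groth.Agent.GrpHomLib.Generic
import Groth.Agent.AlgSpLib.AffineDescent
import Groth.Agent.GrpFieldLib.Uniq
import Groth.Agent.FComplLib.Near

/-!
# Affine quotients near finitely many maximal points
-/

set_option autoImplicit false
set_option backward.isDefEq.respectTransparency false
set_option maxHeartbeats 3200000

universe u

open CategoryTheory CategoryTheory.Limits MonoidalCategory CartesianMonoidalCategory AlgebraicGeometry Opposite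
open AlgSp AlgSpLib Groth.Agent.HomogDense

noncomputable section

namespace Groth.Agent.QuotRep

variable {S : Scheme.{u}} {R U : Over S} {s t : R ⟶ U} (h : IsEqvRel s t)

theorem lift_w (s t : R ⟶ U) : t.left ≫ U.hom = s.left ≫ U.hom := (Over.w t).trans (Over.w s).symm

include h in
/-- A quasi-finite slice through finitely many given points which is quasi-compact and separated. -/
theorem exists_qf_slice_finite [IsAffine S] [Flat s.left] [LocallyOfFinitePresentation s.left] [Flat t.left]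
    [LocallyOfFinitePresentation t.left] [QuasiCompact (pullback.lift t.left s.left (lift_w s t))]
    {T : Set U.left} (hT : T.Finite) :
    ∃ (U₀ P₀ : Over S) (g₀ : U₀ ⟶ U) (pr : P₀ ⟶ U₀) (p₂ : P₀ ⟶ R), IsAffine U₀.left ∧
      LocallyOfFinitePresentation g₀.left ∧ IsPullback pr p₂ g₀ t ∧ Flat (p₂ ≫ s).left ∧
      LocallyOfFinitePresentation (p₂ ≫ s).left ∧ LocallyQuasiFinite (p₂ ≫ s).left ∧
      QuasiCompact (p₂ ≫ s).left ∧ QuasiSeparated (p₂ ≫ s).left ∧ T ⊆ Set.range (p₂ ≫ s).left.base := by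
  have hrel := isRel_of_isEqvRel h
  obtain ⟨U₁, g₁, hg₁, hhf, hhp, hhq, hhs⟩ := QFSectLib.exists_qf_slices hrel
  let φ := pullback.snd g₁ t.left ≫ s.left
  choose p hp using fun η : T => hhs.surj η.1
  choose O hO hpO using fun η : T =>
    exists_isAffineOpen_mem_and_subset (X := U₁) (x := (pullback.fst g₁ t.left).base (p η)) (U := ⊤) trivial
  haveI : Finite T := hT.to_subtype
  let Z : T → Scheme.{u} := fun η => (O η).toScheme
  haveI : ∀ η, IsAffine (Z η) := fun η => hO η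
  let c : (∐ Z) ⟶ U₁ := Sigma.desc fun η : T => (O η).ι
  haveI : Flat c := IsZariskiLocalAtSource.sigmaDesc (P := @Flat) fun η => inferInstance
  haveI : LocallyOfFinitePresentation c :=
    IsZariskiLocalAtSource.sigmaDesc (P := @LocallyOfFinitePresentation) fun η => inferInstance
  haveI : LocallyQuasiFinite c := IsZariskiLocalAtSource.sigmaDesc (P := @LocallyQuasiFinite) fun η => inferInstance
  let g0l : (∐ Z) ⟶ U.left := c ≫ g₁
  let U₀ : Over S := Over.mk (g0l ≫ U.hom)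
  let g₀ : U₀ ⟶ U := Over.homMk g0l rfl
  let P₀ : Over S := Over.mk (pullback.fst g0l t.left ≫ U₀.hom)
  let pr : P₀ ⟶ U₀ := Over.homMk (pullback.fst g0l t.left) rfl
  let p₂ : P₀ ⟶ R := Over.homMk (pullback.snd g0l t.left) (by
    show pullback.snd g0l t.left ≫ R.hom = pullback.fst g0l t.left ≫ g0l ≫ U.hom
    rw [← Over.w t, pullback.condition_assoc])
  have sqP : IsPullback pr p₂ g₀ t := isPullback_over (IsPullback.of_hasPullback g0l t.left)
  let cP : pullback g0l t.left ⟶ pullback g₁ t.left :=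
    pullback.lift (pullback.fst g0l t.left ≫ c) (pullback.snd g0l t.left) (by
      rw [Category.assoc]; exact pullback.condition)
  have sqc : IsPullback cP (pullback.fst g0l t.left) (pullback.fst g₁ t.left) c := by
    refine IsPullback.of_right (h₁₂ := pullback.snd g₁ t.left) (v₁₃ := t.left) (h₂₂ := g₁) ?_
      (pullback.lift_fst _ _ _) (IsPullback.of_hasPullback g₁ t.left).flip
    rw [pullback.lift_snd]
    exact (IsPullback.of_hasPullback g0l t.left).flip
  haveI : Flat cP := MorphismProperty.of_isPullback (P := @Flat) sqc.flip inferInstance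
  haveI : LocallyOfFinitePresentation cP :=
    MorphismProperty.of_isPullback (P := @LocallyOfFinitePresentation) sqc.flip inferInstance
  haveI : LocallyQuasiFinite cP := MorphismProperty.of_isPullback (P := @LocallyQuasiFinite) sqc.flip inferInstance
  haveI : Flat φ := hhf
  haveI : LocallyOfFinitePresentation φ := hhp
  haveI : LocallyQuasiFinite φ := hhq
  have hf : (p₂ ≫ s).left = cP ≫ φ := (pullback.lift_snd_assoc _ _ _ _).symm
  -- quasi-compactness and separatedness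
  let d := pullback.lift t.left s.left (lift_w s t)
  haveI : Mono d := ⟨fun a b e => by
    have h1 := congrArg (· ≫ pullback.fst U.hom U.hom) e
    have h2 := congrArg (· ≫ pullback.snd U.hom U.hom) e
    simp only [d, Category.assoc, pullback.lift_fst, pullback.lift_snd] at h1 h2
    exact hrel.mono _ a b h2 h1⟩
  let e : pullback g0l t.left ⟶ pullback U₀.hom U.hom :=
    pullback.lift (pullback.fst g0l t.left) (pullback.snd g0l t.left ≫ s.left) (by
      rw [Category.assoc, Over.w s, ← Over.w t, ← pullback.condition_assoc]; rfl)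
  let k : pullback U₀.hom U.hom ⟶ pullback U.hom U.hom :=
    pullback.map U₀.hom U.hom U.hom U.hom g0l (𝟙 _) (𝟙 _) (Category.comp_id _) rfl
  have sqk : IsPullback k (pullback.fst U₀.hom U.hom) (pullback.fst U.hom U.hom) g0l := by
    refine IsPullback.of_right (h₁₂ := pullback.snd U.hom U.hom) (v₁₃ := U.hom) (h₂₂ := U.hom) ?_
      (pullback.lift_fst _ _ _) (IsPullback.of_hasPullback U.hom U.hom).flip
    rw [show k ≫ pullback.snd U.hom U.hom = pullback.snd U₀.hom U.hom from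
      (pullback.lift_snd _ _ _).trans (Category.comp_id _)]
    exact (IsPullback.of_hasPullback U₀.hom U.hom).flip
  have hek : e ≫ k = pullback.snd g0l t.left ≫ d := by
    apply pullback.hom_ext
    · simp only [e, k, d, pullback.map, Category.assoc, pullback.lift_fst, pullback.lift_fst_assoc,
        pullback.condition]
    · simp only [e, k, d, pullback.map, Category.assoc, pullback.lift_snd, pullback.lift_snd_assoc,
        Category.comp_id]
  have sqe : IsPullback (pullback.snd g0l t.left) e d k := by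
    refine IsPullback.of_bot ?_ hek.symm sqk
    rw [pullback.lift_fst, pullback.lift_fst]
    exact (IsPullback.of_hasPullback g0l t.left).flip
  haveI : QuasiCompact e := MorphismProperty.of_isPullback (P := @QuasiCompact) sqe ‹_›
  haveI : IsSeparated e := MorphismProperty.of_isPullback (P := @IsSeparated) sqe inferInstance
  haveI : IsAffine U₀.left := inferInstanceAs (IsAffine (∐ Z))
  haveI : IsAffineHom U₀.hom := inferInstance
  have hfe : (p₂ ≫ s).left = e ≫ pullback.snd U₀.hom U.hom := (pullback.lift_snd _ _ _).symm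
  refine ⟨U₀, P₀, g₀, pr, p₂, inferInstance, (inferInstance : LocallyOfFinitePresentation (c ≫ g₁)), sqP,
    by rw [hf]; infer_instance, by rw [hf]; infer_instance, by rw [hf]; infer_instance,
    by rw [hfe]; infer_instance, by rw [hfe]; infer_instance, fun x hx => ?_⟩
  have hz : g0l.base ((Sigma.ι Z ⟨x, hx⟩).base ⟨_, hpO ⟨x, hx⟩ |>.1⟩) =
      t.left.base ((pullback.snd g₁ t.left).base (p ⟨x, hx⟩)) := by
    have h1 : c.base ((Sigma.ι Z ⟨x, hx⟩).base ⟨_, hpO ⟨x, hx⟩ |>.1⟩) =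
        (pullback.fst g₁ t.left).base (p ⟨x, hx⟩) := by
      rw [← Scheme.Hom.comp_apply, Sigma.ι_desc]; rfl
    exact (congrArg g₁.base h1).trans
      (congrArg (fun m => m.base (p ⟨x, hx⟩)) (pullback.condition (f := g₁) (g := t.left)))
  obtain ⟨w, -, hw⟩ := Scheme.Pullback.exists_preimage_pullback (f := g0l) (g := t.left) _ _ hz
  exact ⟨w, (congrArg s.left.base hw).trans (hp ⟨x, hx⟩)⟩

include h in
/-- Around finitely many maximal points there is an invariant open with an affine quotient. -/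
theorem exists_affine_slice [IsAffine S] [Flat s.left] [LocallyOfFinitePresentation s.left] [Flat t.left]
    [LocallyOfFinitePresentation t.left] [QuasiCompact (pullback.lift t.left s.left (lift_w s t))]
    [IsLocallyNoetherian U.left] {T : Set U.left} (hT : T.Finite) (hmax : ∀ η ∈ T, IsMaxPt η) :
    ∃ (W X : Over S) (g : W ⟶ U) (p : W ⟶ X), IsOpenImmersion g.left ∧ IsAffine X.left ∧ IsLocallyNoetherian X.left ∧
      Flat p.left ∧
      LocallyOfFinitePresentation p.left ∧ Surjective p.left ∧ T ⊆ Set.range g.left.base ∧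
      (∀ r : R.left, t.left.base r ∈ Set.range g.left.base ↔ s.left.base r ∈ Set.range g.left.base) ∧
      ∀ (Z : Over S) (a b : Z ⟶ W), a ≫ p = b ≫ p ↔ ∃ r, r ≫ t = a ≫ g ∧ r ≫ s = b ≫ g := by
  obtain ⟨U₀, P₀, g₀, pr, p₂, hU₀, hg₀, sqP, hf1, hf2, hf3, hf4, hf5, hTf⟩ := exists_qf_slice_finite h hT
  let f := p₂ ≫ s
  haveI := hU₀; haveI := hg₀; haveI : Flat f.left := hf1; haveI : LocallyOfFinitePresentation f.left := hf2
  haveI : LocallyQuasiFinite f.left := hf3; haveI : QuasiCompact f.left := hf4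
  haveI : QuasiSeparated f.left := hf5
  let a := (yon S).map g₀ ≫ qπ s t
  have sqf : IsPullback ((yon S).map pr) ((yon S).map f) a (qπ s t) := by
    have h1 := (sqP.map (yon S)).paste_vert (isPullback_qπ s t h)
    rwa [← Functor.map_comp] at h1
  choose V hV hfin using fun η : T => GrpHom.exists_open_isFinite f.left (hmax η.1 η.2)
  let Fr : U.left.Opens := ⟨Set.range f.left.base, f.left.isOpenMap.isOpen_range⟩
  let V₀ : U.left.Opens := (⨆ η, V η) ⊓ Fr
  have hfin₀ : IsFinite (f.left ∣_ V₀) :=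
    FComplLib.restrict_of_le (f := f.left) @IsFinite inf_le_left (FComplLib.restrict_iSup (f := f.left) @IsFinite V hfin)
  let Ω := satOpen s t V₀
  have hfinΩ : IsFinite (f.left ∣_ Ω) := of_open h @IsFinite sqf V₀ hfin₀
  have hinv := satOpen_invariant h V₀
  have hΩf : ∀ x ∈ Ω, x ∈ Set.range f.left.base := by
    rintro x ⟨r₀, hr₀, hx⟩
    obtain ⟨q, hq⟩ := (show s.left.base r₀ ∈ Set.range f.left.base from hr₀.2)
    obtain ⟨ra, ha1, ha2⟩ := exists_inverse h (p₂.left.base q)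
    obtain ⟨ri, hi1, hi2⟩ := exists_inverse h r₀
    obtain ⟨r', h1, h2⟩ := exists_connect h (r := ra) (r₀ := ri) (ha1.trans (hq.trans hi1.symm))
    have e : g₀.left.base (pr.left.base q) = t.left.base r' :=
      (congrArg (fun m => m.left.base q) sqP.w).trans (ha2.symm.trans h1.symm)
    obtain ⟨w, -, hw⟩ := Scheme.exists_preimage_of_isPullback (sqP.map (Over.forget S)) _ _ e
    exact ⟨w, (congrArg s.left.base hw).trans (h2.trans (hi2.trans hx))⟩
  -- the restricted schemes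
  let W₁ : Over S := Over.mk (Ω.ι ≫ U.hom)
  let gW : W₁ ⟶ U := Over.homMk Ω.ι rfl
  let OZ := g₀.left ⁻¹ᵁ Ω
  let Z₁ : Over S := Over.mk (OZ.ι ≫ U₀.hom)
  let ιZ : Z₁ ⟶ U₀ := Over.homMk OZ.ι rfl
  let gz : Z₁ ⟶ W₁ := Over.homMk (g₀.left ∣_ Ω) (by
    show (g₀.left ∣_ Ω) ≫ Ω.ι ≫ U.hom = OZ.ι ≫ U₀.hom
    rw [morphismRestrict_ι_assoc, Over.w g₀])
  let P₁ : Over S := Over.mk ((f.left ⁻¹ᵁ Ω).ι ≫ P₀.hom)
  let ιP : P₁ ⟶ P₀ := Over.homMk (f.left ⁻¹ᵁ Ω).ι rfl
  let fW : P₁ ⟶ W₁ := Over.homMk (f.left ∣_ Ω) (by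
    show (f.left ∣_ Ω) ≫ Ω.ι ≫ U.hom = (f.left ⁻¹ᵁ Ω).ι ≫ P₀.hom
    rw [morphismRestrict_ι_assoc, Over.w f])
  have hle : f.left ⁻¹ᵁ Ω = pr.left ⁻¹ᵁ OZ := by
    ext q
    have e : g₀.left.base (pr.left.base q) = t.left.base (p₂.left.base q) :=
      congrArg (fun m => m.left.base q) sqP.w
    show s.left.base (p₂.left.base q) ∈ Ω ↔ g₀.left.base (pr.left.base q) ∈ Ω
    rw [e]
    exact (hinv _).symm
  let prW : P₁ ⟶ Z₁ := Over.homMk (pr.left.resLE OZ (f.left ⁻¹ᵁ Ω) hle.le) (by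
    show pr.left.resLE OZ _ _ ≫ OZ.ι ≫ U₀.hom = (f.left ⁻¹ᵁ Ω).ι ≫ P₀.hom
    rw [Scheme.Hom.resLE_comp_ι_assoc, Over.w pr])
  have hιp : prW ≫ ιZ = ιP ≫ pr := Over.OverMorphism.ext (Scheme.Hom.resLE_comp_ι _ _)
  have hgz : ιZ ≫ g₀ = gz ≫ gW := Over.OverMorphism.ext (morphismRestrict_ι g₀.left Ω).symm
  haveI : Mono ιZ := Over.mono_of_mono_left ιZ
  have sq1 : IsPullback fW ιP gW f := isPullback_over (isPullback_morphismRestrict f.left Ω).flip.flip
  have sq2 := (sq1.flip.map (yon S)).paste_horiz sqf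
  rw [← Functor.map_comp, ← hιp, Functor.map_comp] at sq2
  have sqW : IsPullback ((yon S).map prW) ((yon S).map fW) ((yon S).map (gz ≫ gW) ≫ qπ s t)
      ((yon S).map gW ≫ qπ s t) := by
    rw [← hgz, Functor.map_comp, Category.assoc]
    exact IsPullback.of_isLimit' ⟨by rw [← Category.assoc, sq2.w]⟩
      (PullbackCone.IsLimit.mk _ (fun c => sq2.lift (c.fst ≫ (yon S).map ιZ) c.snd (by
          rw [Category.assoc, c.condition]))
        (fun c => (cancel_mono ((yon S).map ιZ)).mp (by rw [Category.assoc]; exact sq2.lift_fst _ _ _))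
        (fun c => sq2.lift_snd _ _ _)
        (fun c m h1 h2 => sq2.hom_ext ((Category.assoc _ _ _).symm.trans
          ((congrArg (· ≫ (yon S).map ιZ) h1).trans (sq2.lift_fst _ _ _).symm))
          (h2.trans (sq2.lift_snd _ _ _).symm)))
  haveI : IsFinite fW.left := hfinΩ
  haveI : Flat fW.left := inferInstanceAs (Flat (f.left ∣_ Ω))
  haveI : LocallyOfFinitePresentation fW.left := inferInstanceAs (LocallyOfFinitePresentation (f.left ∣_ Ω))
  haveI : Surjective fW.left := ⟨fun x => by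
    obtain ⟨q, hq⟩ := hΩf x.1 x.2
    have hq' : q ∈ f.left ⁻¹ᵁ Ω := show f.left.base q ∈ Ω by rw [hq]; exact x.2
    exact ⟨⟨q, hq'⟩, Subtype.ext ((congrArg (fun m => m.base (⟨q, hq'⟩ : (f.left ⁻¹ᵁ Ω).toScheme))
      (morphismRestrict_ι f.left Ω)).trans hq)⟩⟩
  haveI : Flat pr.left := MorphismProperty.of_isPullback (P := @Flat) (sqP.map (Over.forget S)).flip ‹_›
  haveI : LocallyOfFinitePresentation pr.left :=
    MorphismProperty.of_isPullback (P := @LocallyOfFinitePresentation) (sqP.map (Over.forget S)).flip ‹_›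
  haveI : Flat prW.left := inferInstanceAs (Flat (pr.left.resLE OZ _ hle.le))
  haveI : LocallyOfFinitePresentation prW.left :=
    inferInstanceAs (LocallyOfFinitePresentation (pr.left.resLE OZ _ hle.le))
  haveI : Surjective prW.left := ⟨fun z => by
    obtain ⟨e, het, -⟩ := (h.equivalence U).refl (𝟙 U)
    have e1 : g₀.left.base z.1 = t.left.base (e.left.base (g₀.left.base z.1)) :=
      (congrArg (fun m => m.left.base (g₀.left.base z.1)) het).symm
    obtain ⟨q, hq, -⟩ := Scheme.exists_preimage_of_isPullback (sqP.map (Over.forget S)) _ _ e1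
    have hqO : q ∈ f.left ⁻¹ᵁ Ω := by rw [hle]; show pr.left.base q ∈ OZ; erw [hq]; exact z.2
    refine ⟨⟨q, hqO⟩, Subtype.ext ?_⟩
    exact (congrArg (fun m => m.base (⟨q, hqO⟩ : (f.left ⁻¹ᵁ Ω).toScheme))
      (Scheme.Hom.resLE_comp_ι pr.left hle.le)).trans hq⟩
  obtain ⟨M, p, hp1, hp2, hp3, hM, hiff⟩ := exists_quotient_slice h gW gz prW fW sqW fun F hF => by
    obtain ⟨b, hbF, hbO⟩ := SpectralQuot.exists_basicOpen_of_finite (Y := U₀.left) OZ (hF.image OZ.ι.base)
      (by rintro _ ⟨z, -, rfl⟩; exact z.2)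
    refine ⟨OZ.ι ⁻¹ᵁ U₀.left.basicOpen b, ((isAffineOpen_top U₀.left).basicOpen b).preimage_of_isOpenImmersion _
      (by rwa [Scheme.Opens.opensRange_ι]), fun z hz => hbF ⟨z, hz, rfl⟩⟩
  haveI := hp1; haveI := hp2; haveI := hp3
  haveI : IsLocallyNoetherian U₀.left := LocallyOfFiniteType.isLocallyNoetherian g₀.left
  haveI : IsLocallyNoetherian M.left := hM (isLocallyNoetherian_of_isOpenImmersion OZ.ι)
  -- shrink to an affine open around the images
  have hTΩ : T ⊆ (Ω : Set U.left) := fun x hx =>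
    le_satOpen h V₀ ⟨(le_iSup V ⟨x, hx⟩) (hV ⟨x, hx⟩), hTf hx⟩
  haveI : IsOpenImmersion gW.left := inferInstanceAs (IsOpenImmersion Ω.ι)
  let T' : Set M.left := p.left.base '' (gW.left.base ⁻¹' T)
  haveI : Finite T' :=
    ((hT.preimage gW.left.isOpenEmbedding.injective.injOn).image p.left.base).to_subtype
  have hT'max : ∀ m : T', IsMaxPt (m : M.left) := by
    rintro ⟨_, w, hw, rfl⟩
    refine GrpField.isMax_map p.left fun z hz => ?_
    exact gW.left.isOpenEmbedding.injective (hmax _ hw _ (hz.map gW.left.continuous))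
  choose B hBo hBm hBu using fun m : T' => exists_open_unique_max (hT'max m)
  choose A hA hmA hAB using fun m : T' =>
    exists_isAffineOpen_mem_and_subset (X := M.left) (x := (m : M.left)) (U := ⟨B m, hBo m⟩) (hBm m)
  let M₀ : M.left.Opens := ⨆ m, A m
  have hM₀ : IsAffineOpen M₀ := IsAffineOpen.iSup_of_disjoint hA fun i j hij => by
    rw [Function.onFun, disjoint_iff, eq_bot_iff]
    rintro y ⟨hyi, hyj⟩
    obtain ⟨ξ, hξ, hξy⟩ := exists_isMax_specializes y
    exact hij (Subtype.ext ((hBu i y (hAB i hyi) ξ hξ hξy).symm.trans (hBu j y (hAB j hyj) ξ hξ hξy)))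
  let W : Over S := Over.mk ((p.left ⁻¹ᵁ M₀).ι ≫ W₁.hom)
  let ιW : W ⟶ W₁ := Over.homMk (p.left ⁻¹ᵁ M₀).ι rfl
  let X : Over S := Over.mk (M₀.ι ≫ M.hom)
  let ιX : X ⟶ M := Over.homMk M₀.ι rfl
  let p' : W ⟶ X := Over.homMk (p.left ∣_ M₀) (by
    show (p.left ∣_ M₀) ≫ M₀.ι ≫ M.hom = (p.left ⁻¹ᵁ M₀).ι ≫ W₁.hom
    rw [morphismRestrict_ι_assoc, Over.w p])
  have hp' : p' ≫ ιX = ιW ≫ p := Over.OverMorphism.ext (morphismRestrict_ι p.left M₀)
  haveI : Mono ιX := Over.mono_of_mono_left ιX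
  refine ⟨W, X, ιW ≫ gW, p', inferInstanceAs (IsOpenImmersion ((p.left ⁻¹ᵁ M₀).ι ≫ Ω.ι)), hM₀,
    isLocallyNoetherian_of_isOpenImmersion M₀.ι,
    inferInstanceAs (Flat (p.left ∣_ M₀)), inferInstanceAs (LocallyOfFinitePresentation (p.left ∣_ M₀)),
    IsZariskiLocalAtTarget.restrict (P := @Surjective) hp3 M₀, fun x hx => ?_, ?_, fun Z a b => ?_⟩
  · let m : T' := ⟨p.left.base ⟨x, hTΩ hx⟩, ⟨⟨x, hTΩ hx⟩, hx, rfl⟩⟩
    exact ⟨⟨⟨x, hTΩ hx⟩, (le_iSup A m) (hmA m)⟩, rfl⟩
  · -- invariance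
    let OR : R.left.Opens := t.left ⁻¹ᵁ Ω
    let R₁ : Over S := Over.mk (OR.ι ≫ R.hom)
    let ιR : R₁ ⟶ R := Over.homMk OR.ι rfl
    have hOs : OR ≤ s.left ⁻¹ᵁ Ω := fun r hr => (hinv r).mp hr
    let t₁ : R₁ ⟶ W₁ := Over.homMk (t.left.resLE Ω OR le_rfl) (by
      show t.left.resLE Ω OR _ ≫ Ω.ι ≫ U.hom = OR.ι ≫ R.hom
      rw [Scheme.Hom.resLE_comp_ι_assoc, Over.w t])
    let s₁ : R₁ ⟶ W₁ := Over.homMk (s.left.resLE Ω OR hOs) (by
      show s.left.resLE Ω OR _ ≫ Ω.ι ≫ U.hom = OR.ι ≫ R.hom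
      rw [Scheme.Hom.resLE_comp_ι_assoc, Over.w s])
    have e : t₁ ≫ p = s₁ ≫ p := (hiff R₁ t₁ s₁).mpr ⟨ιR,
      Over.OverMorphism.ext (Scheme.Hom.resLE_comp_ι _ _).symm,
      Over.OverMorphism.ext (Scheme.Hom.resLE_comp_ι _ _).symm⟩
    have hrange : ∀ x : U.left, x ∈ Set.range (ιW ≫ gW).left.base ↔ ∃ hx : x ∈ Ω, p.left.base ⟨x, hx⟩ ∈ M₀ := by
      intro x
      constructor
      · rintro ⟨w, rfl⟩; exact ⟨w.1.2, w.2⟩
      · rintro ⟨hx, hx'⟩; exact ⟨⟨⟨x, hx⟩, hx'⟩, rfl⟩
    intro r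
    rw [hrange, hrange]
    constructor
    · rintro ⟨hx, hx'⟩
      have ht : t₁.left.base ⟨r, hx⟩ = ⟨t.left.base r, hx⟩ := Subtype.ext
        (congrArg (fun m => m.base (⟨r, hx⟩ : OR.toScheme)) (Scheme.Hom.resLE_comp_ι t.left le_rfl))
      have hs : s₁.left.base ⟨r, hx⟩ = ⟨s.left.base r, (hinv r).mp hx⟩ := Subtype.ext
        (congrArg (fun m => m.base (⟨r, hx⟩ : OR.toScheme)) (Scheme.Hom.resLE_comp_ι s.left hOs))
      refine ⟨(hinv r).mp hx, ?_⟩
      have e' : p.left.base (t₁.left.base (⟨r, hx⟩ : OR.toScheme)) = p.left.base (s₁.left.base ⟨r, hx⟩) :=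
        congrArg (fun m => m.left.base (⟨r, hx⟩ : OR.toScheme)) e
      rw [← hs, ← e']
      erw [ht]; exact hx'
    · rintro ⟨hy, hy'⟩
      have hx : t.left.base r ∈ Ω := (hinv r).mpr hy
      have ht : t₁.left.base ⟨r, hx⟩ = ⟨t.left.base r, hx⟩ := Subtype.ext
        (congrArg (fun m => m.base (⟨r, hx⟩ : OR.toScheme)) (Scheme.Hom.resLE_comp_ι t.left le_rfl))
      have hs : s₁.left.base ⟨r, hx⟩ = ⟨s.left.base r, hy⟩ := Subtype.ext
        (congrArg (fun m => m.base (⟨r, hx⟩ : OR.toScheme)) (Scheme.Hom.resLE_comp_ι s.left hOs))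
      refine ⟨hx, ?_⟩
      have e' : p.left.base (t₁.left.base (⟨r, hx⟩ : OR.toScheme)) = p.left.base (s₁.left.base ⟨r, hx⟩) :=
        congrArg (fun m => m.left.base (⟨r, hx⟩ : OR.toScheme)) e
      rw [← ht, e']
      erw [hs]; exact hy'
  · rw [← cancel_mono ιX, Category.assoc, Category.assoc, hp', ← Category.assoc, ← Category.assoc, hiff]
    simp only [Category.assoc]

end Groth.Agent.QuotRep
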