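import Mathlib
import Groth.Prelude
import Groth.Agent.QuotRepLib.KernelPair
import Groth.Agent.FinHomLib.Affine

/-!
# The relation of a subgroup acting by left translations
-/

set_option autoImplicit false
set_option backward.isDefEq.respectTransparency false
set_option maxHeartbeats 800000

universe u

open CategoryTheory CategoryTheory.Limits MonoidalCategory CartesianMonoidalCategory AlgebraicGeometry Opposite
open AlgSp AlgSpLib
open scoped MonObj

noncomputable section

namespace Groth.Agent.QuotRep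

variable {S : Scheme.{u}} {F G : Over S} [GrpObj F] [GrpObj G] (u : F ⟶ G)

/-- The translation map of a subgroup. -/
abbrev actHom : F ⊗ G ⟶ G := (u ▷ G) ≫ μ[G]

theorem actHom_eq : actHom u = (fst F G ≫ u) * snd F G := by
  rw [Hom.mul_def]
  congr 1

theorem exists_rel_iff {T : Over S} (a b : T ⟶ G) :
    (∃ r, r ≫ actHom u = a ∧ r ≫ snd F G = b) ↔ ∃ f : T ⟶ F, (f ≫ u) * b = a := by
  constructor
  · rintro ⟨r, rfl, rfl⟩
    exact ⟨r ≫ fst F G, by rw [actHom_eq, MonObj.comp_mul, Category.assoc]⟩
  · rintro ⟨f, rfl⟩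
    exact ⟨lift f b, by rw [actHom_eq, MonObj.comp_mul, lift_fst_assoc, lift_snd], lift_snd _ _⟩

variable [IsMonHom u]

theorem isEqvRel_act [Mono u] : IsEqvRel (snd F G) (actHom u) := by
  refine ⟨fun T r r' h1 h2 => ?_, fun T => ⟨fun x => ?_, fun {x y} e => ?_, fun {x y z} e e' => ?_⟩⟩
  · refine CartesianMonoidalCategory.hom_ext _ _ ?_ h2
    rw [actHom_eq, MonObj.comp_mul, MonObj.comp_mul, h2, mul_left_inj, ← Category.assoc, ← Category.assoc] at h1
    exact (cancel_mono u).mp h1
  · exact (exists_rel_iff u x x).mpr ⟨1, by rw [Hom.one_def, Category.assoc, IsMonHom.one_hom, ← Hom.one_def, one_mul]⟩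
  · obtain ⟨f, hf⟩ := (exists_rel_iff u x y).mp e
    refine (exists_rel_iff u y x).mpr ⟨f⁻¹, ?_⟩
    rw [← hf, GrpObj.inv_comp, inv_mul_cancel_left]
  · obtain ⟨f, hf⟩ := (exists_rel_iff u x y).mp e
    obtain ⟨f', hf'⟩ := (exists_rel_iff u y z).mp e'
    refine (exists_rel_iff u x z).mpr ⟨f * f', ?_⟩
    rw [← hf, ← hf', MonObj.mul_comp, mul_assoc]

theorem actHom_left_props (P : MorphismProperty Scheme.{u}) [P.IsStableUnderBaseChange] [P.RespectsIso]
    (hP : P (snd F G).left) : P (actHom u).left := by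
  let σ : F ⊗ G ⟶ F ⊗ G := lift (fst F G) (actHom u)
  let τ : F ⊗ G ⟶ F ⊗ G := lift (fst F G) ((fst F G ≫ u)⁻¹ * snd F G)
  have h1 : σ ≫ τ = 𝟙 _ := by
    refine CartesianMonoidalCategory.hom_ext _ _ (by simp [σ, τ]) ?_
    simp only [σ, τ, Category.assoc, lift_snd, MonObj.comp_mul, GrpObj.comp_inv, lift_fst_assoc, actHom_eq,
      inv_mul_cancel_left, Category.id_comp]
  have h2 : τ ≫ σ = 𝟙 _ := by
    refine CartesianMonoidalCategory.hom_ext _ _ (by simp [σ, τ]) ?_
    simp only [σ, τ, Category.assoc, lift_snd, MonObj.comp_mul, lift_fst_assoc, actHom_eq,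
      mul_inv_cancel_left, Category.id_comp]
  haveI : IsIso σ := ⟨τ, h1, h2⟩
  haveI : IsIso σ.left := inferInstanceAs (IsIso ((Over.forget S).map σ))
  have e : (actHom u).left = σ.left ≫ (snd F G).left := by rw [← Over.comp_left, lift_snd]
  rw [e]
  exact (P.cancel_left_of_respectsIso _ _).mpr hP

/-- The graph of the action is the base change of the subgroup. -/
theorem lift_act_quasiCompact [QuasiCompact u.left] :
    QuasiCompact (pullback.lift (actHom u).left (snd F G).left
      ((Over.w (actHom u)).trans (Over.w (snd F G)).symm)) := by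
  let d : F ⊗ G ⟶ G ⊗ G := lift (actHom u) (snd F G)
  let e : G ⊗ G ⟶ G ⊗ G := lift (fst G G * (snd G G)⁻¹) (snd G G)
  let e' : G ⊗ G ⟶ G ⊗ G := lift (fst G G * snd G G) (snd G G)
  have h1 : (u ▷ G) ≫ e' = d := by
    refine CartesianMonoidalCategory.hom_ext _ _ ?_ (by simp [d, e'])
    simp only [d, e', Category.assoc, lift_fst, MonObj.comp_mul, whiskerRight_fst, whiskerRight_snd, actHom_eq]
  have h2 : e' ≫ e = 𝟙 _ := by
    refine CartesianMonoidalCategory.hom_ext _ _ ?_ (by simp [e, e'])
    simp only [e, e', Category.assoc, lift_fst, lift_snd, MonObj.comp_mul, GrpObj.comp_inv, mul_inv_cancel_right,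
      Category.id_comp]
  have h3 : e ≫ e' = 𝟙 _ := by
    refine CartesianMonoidalCategory.hom_ext _ _ ?_ (by simp [e, e'])
    simp only [e, e', Category.assoc, lift_fst, lift_snd, MonObj.comp_mul, inv_mul_cancel_right,
      Category.id_comp]
  haveI : IsIso e' := ⟨e, h2, h3⟩
  haveI : IsIso e'.left := inferInstanceAs (IsIso ((Over.forget S).map e'))
  haveI : QuasiCompact (u ▷ G).left := by
    have h : IsPullback (u ▷ G).left (fst F G).left (fst G G).left u.left := by
      refine IsPullback.of_right (h₁₂ := (snd G G).left) (v₁₃ := G.hom) (h₂₂ := G.hom) ?_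
        (congrArg Over.Hom.left (whiskerRight_fst u G)) (IsPullback.of_hasPullback G.hom G.hom).flip
      rw [← Over.comp_left, whiskerRight_snd, Over.w u]
      exact (IsPullback.of_hasPullback F.hom G.hom).flip
    exact MorphismProperty.of_isPullback (P := @QuasiCompact) h.flip ‹_›
  show QuasiCompact d.left
  rw [← h1, Over.comp_left]
  infer_instance

end Groth.Agent.QuotRep
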