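import Mathlib
import Groth.Agent.QuotRepLib.Group
import Groth.Agent.QuotRepLib.Restrict
import Groth.Agent.QuotRepLib.Rel

/-!
# Quotients near translates of points
-/

set_option autoImplicit false
set_option backward.isDefEq.respectTransparency false
set_option maxHeartbeats 1600000

universe u

open CategoryTheory CategoryTheory.Limits MonoidalCategory CartesianMonoidalCategory AlgebraicGeometry Opposite
open AlgSp AlgSpLib
open scoped MonObj

noncomputable section

namespace Groth.Agent.QuotRep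

variable {S : Scheme.{u}} [IsAffine S] {F G : Over S} [GrpObj F] [GrpObj G] (u : F ⟶ G) [IsMonHom u] [Mono u]
  [Flat F.hom] [LocallyOfFinitePresentation F.hom]

include u in
/-- An invariant open whose translates by a finite flat quasi-section lie in an affine-quotient slice has a quotient. -/
theorem exists_quotient_translate {W X : Over S} (g : W ⟶ G) [IsOpenImmersion g.left] (p : W ⟶ X) [Flat p.left]
    [LocallyOfFinitePresentation p.left] [IsAffine X.left] [IsLocallyNoetherian X.left]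
    (hsat : ∀ r : (F ⊗ G).left, (actHom u).left.base r ∈ Set.range g.left.base ↔
      (snd F G).left.base r ∈ Set.range g.left.base)
    (hiff : ∀ (T : Over S) (a b : T ⟶ W), a ≫ p = b ≫ p ↔
      ∃ r, r ≫ actHom u = a ≫ g ∧ r ≫ snd F G = b ≫ g)
    {S' : Over S} [IsAffine S'.left] [IsFinite S'.hom] [Flat S'.hom] [LocallyOfFinitePresentation S'.hom]
    [Surjective S'.hom] (y : S' ⟶ G) {x : G.left}
    (hx : ∀ z : (G ⊗ S').left, (fst G S').left.base z = x →
      ((G ◁ y) ≫ μ[G]).left.base z ∈ Set.range g.left.base) :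
    ∃ (U₀ X₀ : Over S) (g₀ : U₀ ⟶ G) (p₀ : U₀ ⟶ X₀), IsOpenImmersion g₀.left ∧ Flat p₀.left ∧
      LocallyOfFinitePresentation p₀.left ∧ Surjective p₀.left ∧ x ∈ Set.range g₀.left.base ∧
      (∀ r : (F ⊗ G).left, (actHom u).left.base r ∈ Set.range g₀.left.base ↔
        (snd F G).left.base r ∈ Set.range g₀.left.base) ∧
      ∀ (T : Over S) (a b : T ⟶ U₀), a ≫ p₀ = b ≫ p₀ ↔
        ∃ r, r ≫ actHom u = a ≫ g₀ ∧ r ≫ snd F G = b ≫ g₀ := by
  let ρ : G ⊗ S' ⟶ G := (G ◁ y) ≫ μ[G]
  have hρ : ρ = fst G S' * (snd G S' ≫ y) := by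
    show (G ◁ y) ≫ μ[G] = lift _ _ ≫ μ[G]
    congr 1
  haveI : Flat (snd F G).left := inferInstanceAs (Flat (pullback.snd F.hom G.hom))
  haveI : LocallyOfFinitePresentation (snd F G).left :=
    inferInstanceAs (LocallyOfFinitePresentation (pullback.snd F.hom G.hom))
  haveI : Flat (actHom u).left := actHom_left_props u @Flat ‹_›
  haveI : LocallyOfFinitePresentation (actHom u).left := actHom_left_props u @LocallyOfFinitePresentation ‹_›
  -- the invariant open
  haveI : IsFinite (fst G S').left := inferInstanceAs (IsFinite (pullback.fst G.hom S'.hom))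
  let C : Set G.left := (fst G S').left.base '' (ρ.left.base ⁻¹' Set.range g.left.base)ᶜ
  have hC : IsClosed C := (fst G S').left.isClosedMap _
    ((g.left.isOpenEmbedding.isOpen_range.preimage ρ.left.continuous).isClosed_compl)
  let Ω : G.left.Opens := ⟨Cᶜ, hC.isOpen_compl⟩
  let τ : (F ⊗ G) ⊗ S' ⟶ F ⊗ G := lift (fst (F ⊗ G) S' ≫ fst F G) ((snd F G ▷ S') ≫ ρ)
  have hτs : τ ≫ snd F G = (snd F G ▷ S') ≫ ρ := lift_snd _ _
  have hτt : τ ≫ actHom u = (actHom u ▷ S') ≫ ρ := by
    rw [actHom_eq, MonObj.comp_mul, lift_fst_assoc, lift_snd, hρ, MonObj.comp_mul, MonObj.comp_mul,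
      whiskerRight_fst, whiskerRight_fst, whiskerRight_snd_assoc, whiskerRight_snd_assoc, MonObj.comp_mul, mul_assoc,
      Category.assoc]
  have hkey : ∀ k k' : F ⊗ G ⟶ G, τ ≫ k = (k ▷ S') ≫ ρ → τ ≫ k' = (k' ▷ S') ≫ ρ →
      (∀ r : (F ⊗ G).left, k.left.base r ∈ Set.range g.left.base → k'.left.base r ∈ Set.range g.left.base) →
      ∀ r : (F ⊗ G).left, k'.left.base r ∈ C → k.left.base r ∈ C := by
    rintro k k' hk hk' hkk r ⟨z, hz, e⟩
    obtain ⟨w, hw1, hw2⟩ := Scheme.exists_preimage_of_isPullback (isPullback_whiskerRight k' S') z r e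
    refine ⟨(k ▷ S').left.base w, fun hmem => hz ?_, ?_⟩
    · show ρ.left.base z ∈ Set.range g.left.base
      rw [← hw1, show ρ.left.base ((k' ▷ S').left.base w) = k'.left.base (τ.left.base w) from
        (congrArg (fun m => m.left.base w) hk').symm]
      refine hkk _ ?_
      rw [show k.left.base (τ.left.base w) = ρ.left.base ((k ▷ S').left.base w) from
        congrArg (fun m => m.left.base w) hk]
      exact hmem
    · exact (congrArg (fun m => m.left.base w) (whiskerRight_fst k S')).trans (congrArg k.left.base hw2)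
  have hinv : ∀ r : (F ⊗ G).left, (actHom u).left.base r ∈ Ω ↔ (snd F G).left.base r ∈ Ω := fun r =>
    not_congr ⟨hkey _ _ hτs hτt (fun r => (hsat r).mpr) r, hkey _ _ hτt hτs (fun r => (hsat r).mp) r⟩
  obtain ⟨R₀, U₀, s₀, t₀, g₀, h₀, hg₀, hrange, hs1, hs2, ht1, ht2, hrel⟩ :=
    exists_restrict (isEqvRel_act u) Ω hinv
  haveI := hg₀; haveI := hs1; haveI := hs2; haveI := ht1; haveI := ht2
  -- the translated map
  have hrW : Set.range ((g₀ ▷ S') ≫ ρ).left.base ⊆ Set.range g.left.base := by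
    rintro _ ⟨z, rfl⟩
    by_contra hne
    have hmem : g₀.left.base ((fst U₀ S').left.base z) ∈ (Ω : Set G.left) := by rw [← hrange]; exact ⟨_, rfl⟩
    exact hmem ⟨(g₀ ▷ S').left.base z, hne, congrArg (fun m => m.left.base z) (whiskerRight_fst g₀ S')⟩
  let q₁ : U₀ ⊗ S' ⟶ W := Over.homMk (IsOpenImmersion.lift g.left ((g₀ ▷ S') ≫ ρ).left hrW) (by
    rw [← Over.w g, IsOpenImmersion.lift_fac_assoc]; exact Over.w ((g₀ ▷ S') ≫ ρ))
  have hq₁ : q₁ ≫ g = (g₀ ▷ S') ≫ ρ := Over.OverMorphism.ext (IsOpenImmersion.lift_fac _ _ _)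
  let Φ : U₀ ⊗ S' ⟶ W ⊗ S' := lift q₁ (snd U₀ S')
  let σ : G ⊗ S' ⟶ G ⊗ S' := lift ρ (snd G S')
  let σ' : G ⊗ S' ⟶ G ⊗ S' := lift (fst G S' * (snd G S' ≫ y)⁻¹) (snd G S')
  have h1 : σ ≫ σ' = 𝟙 _ := by
    refine CartesianMonoidalCategory.hom_ext _ _ ?_ (by simp [σ, σ'])
    simp only [σ, σ', Category.assoc, lift_fst, MonObj.comp_mul, GrpObj.comp_inv, lift_snd_assoc, hρ,
      mul_inv_cancel_right, Category.id_comp]
  have h2 : σ' ≫ σ = 𝟙 _ := by
    refine CartesianMonoidalCategory.hom_ext _ _ ?_ (by simp [σ, σ'])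
    simp only [σ, σ', Category.assoc, lift_fst, MonObj.comp_mul, lift_snd_assoc, hρ,
      inv_mul_cancel_right, Category.id_comp]
  haveI : IsIso σ := ⟨σ', h1, h2⟩
  haveI : IsIso σ.left := inferInstanceAs (IsIso ((Over.forget S).map σ))
  have hΦ : Φ ≫ (g ▷ S') = (g₀ ▷ S') ≫ σ := by
    refine CartesianMonoidalCategory.hom_ext _ _ ?_ ?_
    · simp only [Φ, σ, Category.assoc, whiskerRight_fst, lift_fst_assoc, lift_fst, hq₁]
    · simp only [Φ, σ, Category.assoc, whiskerRight_snd, lift_snd]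
  haveI : IsOpenImmersion (g ▷ S').left := whiskerRight_left @IsOpenImmersion g S' ‹_›
  haveI : IsOpenImmersion (g₀ ▷ S').left := whiskerRight_left @IsOpenImmersion g₀ S' ‹_›
  haveI : IsOpenImmersion Φ.left := by
    haveI : IsOpenImmersion (Φ.left ≫ (g ▷ S').left) := by
      rw [← Over.comp_left, hΦ, Over.comp_left]; infer_instance
    exact IsOpenImmersion.of_comp Φ.left (g ▷ S').left
  haveI : Flat (p ▷ S').left := whiskerRight_left @Flat p S' ‹_›
  haveI : LocallyOfFinitePresentation (p ▷ S').left := whiskerRight_left @LocallyOfFinitePresentation p S' ‹_›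
  let q := Φ ≫ (p ▷ S')
  haveI : Flat q.left := inferInstanceAs (Flat (Φ.left ≫ (p ▷ S').left))
  haveI : LocallyOfFinitePresentation q.left :=
    inferInstanceAs (LocallyOfFinitePresentation (Φ.left ≫ (p ▷ S').left))
  let O : (X ⊗ S').left.Opens := ⟨Set.range q.left.base, q.left.isOpenMap.isOpen_range⟩
  haveI : IsAffineHom (fst X S').left := inferInstanceAs (IsAffineHom (pullback.fst X.hom S'.hom))
  haveI : IsAffine (X ⊗ S').left := isAffine_of_isAffineHom (fst X S').left
  haveI : IsFinite (fst X S').left := inferInstanceAs (IsFinite (pullback.fst X.hom S'.hom))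
  haveI : IsLocallyNoetherian (X ⊗ S').left := LocallyOfFiniteType.isLocallyNoetherian (fst X S').left
  haveI : IsNoetherian (X ⊗ S').left := {}
  haveI : O.toScheme.IsQuasiAffine := by
    haveI : CompactSpace O.toScheme := isCompact_iff_compactSpace.mp (TopologicalSpace.NoetherianSpace.isCompact _)
    exact .of_isImmersion O.ι
  let X' : Over S := Over.mk (O.ι ≫ (X ⊗ S').hom)
  haveI : X'.left.IsQuasiAffine := ‹O.toScheme.IsQuasiAffine›
  let ιX : X' ⟶ X ⊗ S' := Over.homMk O.ι rfl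
  haveI : Mono ιX := Over.mono_of_mono_left ιX
  let q' : U₀ ⊗ S' ⟶ X' := Over.homMk (IsOpenImmersion.lift O.ι q.left (by rintro _ ⟨z, rfl⟩; exact ⟨⟨_, z, rfl⟩, rfl⟩)) (by
    show _ ≫ O.ι ≫ (X ⊗ S').hom = _
    rw [IsOpenImmersion.lift_fac_assoc]; exact Over.w q)
  have hq' : q' ≫ ιX = q := Over.OverMorphism.ext (IsOpenImmersion.lift_fac _ _ _)
  have hql : q'.left ≫ O.ι = q.left := IsOpenImmersion.lift_fac _ _ _
  haveI : Flat q'.left := by
    haveI : Flat (q'.left ≫ O.ι) := by rw [hql]; infer_instance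
    exact MorphismProperty.of_postcomp (W' := @IsOpenImmersion) (W := @Flat) q'.left O.ι inferInstance ‹_›
  haveI : LocallyOfFinitePresentation q'.left := by
    haveI : LocallyOfFinitePresentation (q'.left ≫ O.ι) := by rw [hql]; infer_instance
    exact MorphismProperty.of_postcomp (W' := @IsOpenImmersion) (W := @LocallyOfFinitePresentation) q'.left O.ι
      inferInstance ‹_›
  haveI : Surjective q'.left := ⟨fun o => by
    obtain ⟨z, hz⟩ := o.2
    exact ⟨z, Subtype.ext ((congrArg (fun m => m.base z) hql).trans hz)⟩⟩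
  have hqW : q' ≫ ιX ≫ snd X S' = snd U₀ S' := by
    rw [reassoc_of% hq']; simp [q, Φ]
  have hQ := isRepSh_of_baseChange h₀ q' (ιX ≫ snd X S') hqW fun T a b => by
    have e1 : ∀ c : T ⟶ U₀ ⊗ S', c ≫ q ≫ fst X S' = (c ≫ q₁) ≫ p := fun c => by
      simp only [q, Φ, Category.assoc, whiskerRight_fst, lift_fst_assoc]
    have e2 : ∀ c : T ⟶ U₀ ⊗ S', c ≫ q ≫ snd X S' = c ≫ snd U₀ S' := fun c => by
      simp only [q, Φ, Category.assoc, whiskerRight_snd, lift_snd]
    have e3 : ∀ c : T ⟶ U₀ ⊗ S', (c ≫ q₁) ≫ g = (c ≫ fst U₀ S' ≫ g₀) * ((c ≫ snd U₀ S') ≫ y) := fun c => by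
      simp only [Category.assoc, hq₁, hρ, MonObj.comp_mul, whiskerRight_fst, whiskerRight_snd_assoc]
    rw [← cancel_mono ιX, Category.assoc, Category.assoc, hq', hrel]
    constructor
    · intro e
      have ey : a ≫ snd U₀ S' = b ≫ snd U₀ S' := by
        rw [← e2, ← e2, ← Category.assoc a q, ← Category.assoc b q]; exact congrArg (· ≫ snd X S') e
      have ew : (a ≫ q₁) ≫ p = (b ≫ q₁) ≫ p := by
        rw [← e1, ← e1, ← Category.assoc a q, ← Category.assoc b q]; exact congrArg (· ≫ fst X S') e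
      refine ⟨?_, ey⟩
      obtain ⟨f, hf⟩ := (exists_rel_iff u _ _).mp ((hiff T _ _).mp ew)
      rw [e3, e3, ey, ← mul_assoc, mul_left_inj] at hf
      exact (exists_rel_iff u _ _).mpr ⟨f, by simpa only [Category.assoc] using hf⟩
    · rintro ⟨hr, ey⟩
      obtain ⟨f, hf⟩ := (exists_rel_iff u _ _).mp hr
      refine CartesianMonoidalCategory.hom_ext _ _ ?_
        ((Category.assoc _ _ _).trans ((e2 a).trans (ey.trans ((e2 b).symm.trans (Category.assoc _ _ _).symm))))
      refine (Category.assoc _ _ _).trans ((e1 a).trans (Eq.trans ?_ ((e1 b).symm.trans (Category.assoc _ _ _).symm)))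
      rw [hiff]
      refine (exists_rel_iff u _ _).mpr ⟨f, ?_⟩
      rw [e3, e3, ey, ← mul_assoc]
      simp only [Category.assoc] at hf ⊢
      rw [hf]
  obtain ⟨X₀, p₀, sq, hp1, hp2, hp3⟩ := exists_quotient_of_isRepSh h₀ hQ
  refine ⟨U₀, X₀, g₀, p₀, hg₀, hp1, hp3, hp2, ?_, fun r => ?_, fun T a b => ?_⟩
  · rw [hrange]
    rintro ⟨z, hz, e⟩
    exact hz (hx z e)
  · rw [hrange]; exact hinv r
  · rw [← hrel]
    refine ⟨fun e => ⟨sq.lift a b e, sq.lift_fst _ _ _, sq.lift_snd _ _ _⟩, ?_⟩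
    rintro ⟨r, rfl, rfl⟩
    rw [Category.assoc, Category.assoc, sq.w]

end Groth.Agent.QuotRep
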