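import Mathlib
import Groth.Agent.QuotRepLib.Slice
import Groth.Agent.QuotRepLib.Translate
import Groth.Agent.QuotRepLib.QuasiSection

/-!
# Quotients of group schemes by subgroups over an artinian base
-/

set_option autoImplicit false
set_option backward.isDefEq.respectTransparency false
set_option maxHeartbeats 1600000

universe u

open CategoryTheory CategoryTheory.Limits MonoidalCategory CartesianMonoidalCategory AlgebraicGeometry Opposite
open AlgSp AlgSpLib Groth.Agent.HomogDense
open scoped MonObj

noncomputable section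

namespace Groth.Agent.QuotRep

variable {S : Scheme.{u}} [IsAffine S] [Subsingleton ↥S] [IsLocallyNoetherian S] {F G : Over S} [GrpObj F] [GrpObj G]
  (u : F ⟶ G) [IsMonHom u] [Mono u] [QuasiCompact u.left] [Flat F.hom] [LocallyOfFinitePresentation F.hom]
  [Flat G.hom] [LocallyOfFinitePresentation G.hom]

include u in
/-- Every closed point has an invariant neighbourhood with a quotient. -/
theorem exists_quotient_nhd {x : G.left} (hx : IsClosed ({x} : Set G.left)) :
    ∃ (U₀ X₀ : Over S) (g₀ : U₀ ⟶ G) (p₀ : U₀ ⟶ X₀), IsOpenImmersion g₀.left ∧ Flat p₀.left ∧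
      LocallyOfFinitePresentation p₀.left ∧ Surjective p₀.left ∧ x ∈ Set.range g₀.left.base ∧
      (∀ r : (F ⊗ G).left, (actHom u).left.base r ∈ Set.range g₀.left.base ↔
        (snd F G).left.base r ∈ Set.range g₀.left.base) ∧
      ∀ (T : Over S) (a b : T ⟶ U₀), a ≫ p₀ = b ≫ p₀ ↔
        ∃ r, r ≫ actHom u = a ≫ g₀ ∧ r ≫ snd F G = b ≫ g₀ := by
  haveI : IsLocallyNoetherian G.left := LocallyOfFiniteType.isLocallyNoetherian G.hom
  obtain ⟨θ, hθ, -⟩ := exists_isMax_specializes x
  obtain ⟨hKf, hKo⟩ := closedPoint_props hx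
  let K : Over S := Over.mk (G.left.fromSpecResidueField x ≫ G.hom)
  let ix : K ⟶ G := Over.homMk (G.left.fromSpecResidueField x) rfl
  haveI : IsFinite K.hom := hKf
  haveI : UniversallyOpen K.hom := hKo
  haveI : IsFinite (snd K G).left := inferInstanceAs (IsFinite (pullback.snd K.hom G.hom))
  haveI : UniversallyOpen (snd K G).left := inferInstanceAs (UniversallyOpen (pullback.snd K.hom G.hom))
  let m : K ⊗ G ⟶ G := (fst K G ≫ ix) * snd K G
  let σ : K ⊗ G ⟶ K ⊗ G := lift (fst K G) m
  let σ' : K ⊗ G ⟶ K ⊗ G := lift (fst K G) ((fst K G ≫ ix)⁻¹ * snd K G)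
  have h1 : σ ≫ σ' = 𝟙 _ := by
    refine CartesianMonoidalCategory.hom_ext _ _ (by simp [σ, σ']) ?_
    simp only [σ, σ', m, Category.assoc, lift_snd, MonObj.comp_mul, GrpObj.comp_inv, lift_fst_assoc,
      inv_mul_cancel_left, Category.id_comp]
  have h2 : σ' ≫ σ = 𝟙 _ := by
    refine CartesianMonoidalCategory.hom_ext _ _ (by simp [σ, σ']) ?_
    simp only [σ, σ', m, Category.assoc, lift_snd, MonObj.comp_mul, lift_fst_assoc, mul_inv_cancel_left,
      Category.id_comp]
  haveI : IsIso σ := ⟨σ', h1, h2⟩
  haveI : IsIso σ.left := inferInstanceAs (IsIso ((Over.forget S).map σ))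
  have hm : m.left = σ.left ≫ (snd K G).left := by rw [← Over.comp_left, lift_snd]
  haveI : UniversallyOpen m.left := by rw [hm]; infer_instance
  haveI : IsFinite m.left := by rw [hm]; infer_instance
  let T : Set G.left := m.left.base '' ((snd K G).left.base ⁻¹' {θ})
  have hT : T.Finite := ((snd K G).left.finite_preimage_singleton θ).image _
  have hTmax : ∀ a ∈ T, IsMaxPt a := by
    rintro _ ⟨z, hz, rfl⟩
    exact isMax_image m.left m.left.finite_preimage_singleton
      (isMax_of_isFinite (snd K G).left (by rw [show (snd K G).left.base z = θ from hz]; exact hθ))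
  haveI : Flat (snd F G).left := inferInstanceAs (Flat (pullback.snd F.hom G.hom))
  haveI : LocallyOfFinitePresentation (snd F G).left :=
    inferInstanceAs (LocallyOfFinitePresentation (pullback.snd F.hom G.hom))
  haveI : Flat (actHom u).left := actHom_left_props u @Flat ‹_›
  haveI : LocallyOfFinitePresentation (actHom u).left := actHom_left_props u @LocallyOfFinitePresentation ‹_›
  haveI := lift_act_quasiCompact u
  obtain ⟨W, X, g, p, hg, hX, hXn, hp1, hp2, hp3, hTW, hsat, hiff⟩ :=
    exists_affine_slice (isEqvRel_act u) hT hTmax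
  haveI := hg; haveI := hX; haveI := hXn; haveI := hp1; haveI := hp2
  let Bad : Set G.left := (snd K G).left.base '' (m.left.base ⁻¹' Set.range g.left.base)ᶜ
  have hB : IsClosed Bad := (snd K G).left.isClosedMap _
    ((g.left.isOpenEmbedding.isOpen_range.preimage m.left.continuous).isClosed_compl)
  have hθB : θ ∉ Bad := by
    rintro ⟨z, hz, e⟩
    exact hz (hTW ⟨z, e, rfl⟩)
  obtain ⟨S', y, hS1, hS2, hS3, hS4, hS5, hyB⟩ :=
    exists_quasiSection G (O := ⟨Badᶜ, hB.isOpen_compl⟩) hθB
  haveI := hS1; haveI := hS2; haveI := hS3; haveI := hS4; haveI := hS5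
  refine exists_quotient_translate u g p hsat hiff y fun z hz => ?_
  obtain ⟨k₀, hk₀⟩ : x ∈ Set.range ix.left.base := by
    rw [show Set.range ix.left.base = {x} from Scheme.range_fromSpecResidueField x]; rfl
  obtain ⟨w, hw1, -⟩ := Scheme.exists_preimage_of_isPullback (isPullback_whiskerRight ix S') z k₀ (hz.trans hk₀.symm)
  have e : (ix ▷ S') ≫ (G ◁ y) ≫ μ[G] = (K ◁ y) ≫ m := by
    rw [← Category.assoc, ← whisker_exchange, Category.assoc]
    congr 1
  rw [← hw1, show ((G ◁ y) ≫ μ[G]).left.base ((ix ▷ S').left.base w) = m.left.base ((K ◁ y).left.base w) from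
    congrArg (fun k => k.left.base w) e]
  by_contra hne
  exact hyB ⟨(snd K S').left.base w, rfl⟩ ⟨(K ◁ y).left.base w, hne,
    congrArg (fun k => k.left.base w) (whiskerLeft_snd K y)⟩

include u in
/-- The quotient of a flat group scheme by a flat subgroup over an artinian base. -/
theorem exists_quotient_act :
    ∃ (X : Over S) (p : G ⟶ X), Flat p.left ∧ Surjective p.left ∧ LocallyOfFinitePresentation p.left ∧
      IsPullback (actHom u) (snd F G) p p := by
  haveI : Flat (snd F G).left := inferInstanceAs (Flat (pullback.snd F.hom G.hom))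
  haveI : LocallyOfFinitePresentation (snd F G).left :=
    inferInstanceAs (LocallyOfFinitePresentation (pullback.snd F.hom G.hom))
  haveI : Flat (actHom u).left := actHom_left_props u @Flat ‹_›
  haveI : LocallyOfFinitePresentation (actHom u).left := actHom_left_props u @LocallyOfFinitePresentation ‹_›
  haveI : JacobsonSpace ↥G.left := by
    haveI : JacobsonSpace ↥S := inferInstance
    exact LocallyOfFiniteType.jacobsonSpace G.hom
  choose U₀ X₀ g₀ p₀ hg hp1 hp2 hp3 hx hsat hiff using
    fun x : closedPoints ↥G.left => exists_quotient_nhd u (x := x.1) x.2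
  have hQ := isRepSh_of_cover (isEqvRel_act u) g₀ p₀ hiff hsat fun y => by
    obtain ⟨c, hc, hc'⟩ := nonempty_inter_closedPoints (Z := closure {y}) ⟨y, subset_closure rfl⟩
      isClosed_closure.isLocallyClosed
    exact ⟨⟨c, hc'⟩, (specializes_iff_mem_closure.mpr hc).mem_open
      ((g₀ ⟨c, hc'⟩).left.isOpenEmbedding.isOpen_range) (hx ⟨c, hc'⟩)⟩
  obtain ⟨X, p, sq, h1, h2, h3⟩ := exists_quotient_of_isRepSh (isEqvRel_act u) hQ
  exact ⟨X, p, h1, h2, h3, sq⟩

end Groth.Agent.QuotRep
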