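import Mathlib
import Groth.Agent.QuotRepLib.Cover
import Groth.Agent.GrpHomLib.Artin
import Groth.Agent.AlgSpLib.FpqcMore
import Groth.Agent.S0115
import Groth.Agent.UOpenLib.Criterion

/-!
# Separatedness, flatness and smoothness of quotients
-/

set_option autoImplicit false
set_option backward.isDefEq.respectTransparency false
set_option maxHeartbeats 1600000

universe u

open CategoryTheory CategoryTheory.Limits MonoidalCategory CartesianMonoidalCategory AlgebraicGeometry Opposite
open AlgSp AlgSpLib
open scoped MonObj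

noncomputable section

namespace Groth.Agent.QuotRep

variable {S : Scheme.{u}} {F G X : Over S} [GrpObj F] [GrpObj G] {u : F ⟶ G} [IsMonHom u] {p : G ⟶ X}

theorem isClosedImmersion_graph [IsClosedImmersion u.left] : IsClosedImmersion (lift (actHom u) (snd F G)).left := by
  let e' : G ⊗ G ⟶ G ⊗ G := lift (fst G G * snd G G) (snd G G)
  let e : G ⊗ G ⟶ G ⊗ G := lift (fst G G * (snd G G)⁻¹) (snd G G)
  have h1 : (u ▷ G) ≫ e' = lift (actHom u) (snd F G) := by
    refine CartesianMonoidalCategory.hom_ext _ _ ?_ (by simp [e'])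
    simp only [e', Category.assoc, lift_fst, MonObj.comp_mul, whiskerRight_fst, whiskerRight_snd, actHom_eq]
  have h2 : e' ≫ e = 𝟙 _ := by
    refine CartesianMonoidalCategory.hom_ext _ _ ?_ (by simp [e, e'])
    simp only [e, e', Category.assoc, lift_fst, lift_snd, MonObj.comp_mul, GrpObj.comp_inv, mul_inv_cancel_right,
      Category.id_comp]
  have h3 : e ≫ e' = 𝟙 _ := by
    refine CartesianMonoidalCategory.hom_ext _ _ ?_ (by simp [e, e'])
    simp only [e, e', Category.assoc, lift_fst, lift_snd, MonObj.comp_mul, inv_mul_cancel_right, Category.id_comp]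
  haveI : IsIso e' := ⟨e, h2, h3⟩
  haveI : IsIso e'.left := inferInstanceAs (IsIso ((Over.forget S).map e'))
  haveI : IsClosedImmersion (u ▷ G).left := whiskerRight_left @IsClosedImmersion u G ‹_›
  rw [← h1, Over.comp_left]
  infer_instance

/-- A quotient by a closed subgroup is separated. -/
theorem isSeparated_quotient [IsClosedImmersion u.left] [Flat p.left] [Surjective p.left]
    [LocallyOfFinitePresentation p.left] (sq : IsPullback (actHom u) (snd F G) p p) : IsSeparated X.hom := by
  have hsq : IsPullback (actHom u ≫ p) (lift (actHom u) (snd F G)) (lift (𝟙 X) (𝟙 X)) (p ⊗ₘ p) := by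
    have hw : (actHom u ≫ p) ≫ lift (𝟙 X) (𝟙 X) = lift (actHom u) (snd F G) ≫ (p ⊗ₘ p) := by
      rw [lift_map, comp_lift, Category.comp_id, sq.w]
    refine ⟨⟨hw⟩, ⟨PullbackCone.IsLimit.mk _
      (fun c => sq.lift (c.snd ≫ fst G G) (c.snd ≫ snd G G) ?_) (fun c => ?_) (fun c => ?_)
      (fun c m h1 h2 => ?_)⟩⟩
    · have h1 := congrArg (· ≫ fst X X) c.condition
      have h2 := congrArg (· ≫ snd X X) c.condition
      simp only [Category.assoc, lift_fst, lift_snd, tensorHom_fst, tensorHom_snd, Category.comp_id] at h1 h2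
      rw [Category.assoc, Category.assoc, ← h1, ← h2]
    · have h1 := congrArg (· ≫ fst X X) c.condition
      simp only [Category.assoc, lift_fst, tensorHom_fst, Category.comp_id] at h1
      rw [sq.lift_fst_assoc, Category.assoc, h1]
    · exact CartesianMonoidalCategory.hom_ext _ _
        ((Category.assoc _ _ _).trans ((congrArg (_ ≫ ·) (lift_fst _ _)).trans (sq.lift_fst _ _ _)))
        ((Category.assoc _ _ _).trans ((congrArg (_ ≫ ·) (lift_snd _ _)).trans (sq.lift_snd _ _ _)))
    · refine sq.hom_ext ?_ ?_
      · rw [sq.lift_fst, ← h2, Category.assoc, lift_fst]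
      · rw [sq.lift_snd, ← h2, Category.assoc, lift_snd]
  haveI hp : (@Surjective ⊓ @Flat ⊓ @LocallyOfFinitePresentation : MorphismProperty Scheme.{u}) (p ⊗ₘ p).left := by
    rw [MonoidalCategory.tensorHom_def, Over.comp_left]
    have hl : ∀ (P : MorphismProperty Scheme.{u}) [P.IsStableUnderBaseChange], P p.left → P (X ◁ p).left := by
      intro P _ h
      exact MorphismProperty.of_isPullback (FinHom.isPullback_whiskerLeft X p).flip h
    haveI := whiskerRight_left @Surjective p G ‹_›
    haveI := whiskerRight_left @Flat p G ‹_›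
    haveI := whiskerRight_left @LocallyOfFinitePresentation p G ‹_›
    haveI := hl @Surjective ‹_›
    haveI := hl @Flat ‹_›
    haveI := hl @LocallyOfFinitePresentation ‹_›
    exact ⟨⟨inferInstance, inferInstance⟩, inferInstance⟩
  have := MorphismProperty.of_isPullback_of_descendsAlong (P := @IsClosedImmersion)
    (Q := @Surjective ⊓ @Flat ⊓ @LocallyOfFinitePresentation) (hsq.map (Over.forget S)).flip hp
    isClosedImmersion_graph
  exact ⟨this⟩

end Groth.Agent.QuotRep

namespace Groth.Agent.QuotRep

variable {A : Type u} [CommRing A] [IsArtinianRing A] [IsLocalRing A]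
  {F G : Over (Spec (CommRingCat.of A))} [GrpObj F] [GrpObj G] [Flat F.hom] [LocallyOfFiniteType F.hom]
  [Flat G.hom] [LocallyOfFiniteType G.hom]

/-- Quotients of flat group schemes by flat subgroups over artinian local rings. -/
theorem exists_quotient_artinian (u : F ⟶ G) [IsMonHom u] [Mono u] [QuasiCompact u.left] :
    ∃ (X : Over (Spec (CommRingCat.of A))) (p : G ⟶ X),
      Flat p.left ∧ Surjective p.left ∧ LocallyOfFinitePresentation p.left ∧
      IsPullback (actHom u) (snd F G) p p ∧
      IsSeparated X.hom ∧ Flat X.hom ∧ (Smooth G.hom → Smooth X.hom) := by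
  haveI : Subsingleton ↥(Spec (CommRingCat.of A)) := NeutralSch.subsingleton_spec A
  haveI : IsNoetherianRing A := inferInstance
  haveI : IsLocallyNoetherian (Spec (CommRingCat.of A)) := inferInstance
  haveI : LocallyOfFinitePresentation F.hom := UOpenLib.locallyOfFinitePresentation_of_isLocallyNoetherian F.hom
  haveI : LocallyOfFinitePresentation G.hom := UOpenLib.locallyOfFinitePresentation_of_isLocallyNoetherian G.hom
  haveI : Mono u.left := inferInstanceAs (Mono ((Over.forget _).map u))
  haveI := GrpHom.isClosedImmersion_of_mono_artinian u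
  obtain ⟨X, p, h1, h2, h3, sq⟩ := exists_quotient_act u
  haveI := h1; haveI := h2; haveI := h3
  refine ⟨X, p, h1, h2, h3, sq, isSeparated_quotient sq, ?_, fun hG => ?_⟩
  · haveI : Flat (p.left ≫ X.hom) := by rw [Over.w p]; infer_instance
    exact flat_of_comp_surjective p.left X.hom
  · haveI : Smooth (p.left ≫ X.hom) := by rw [Over.w p]; exact hG
    exact Groth.Agent.S0115.result p.left X.hom

end Groth.Agent.QuotRep
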